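import Mathlib.GroupTheory.Sylow
import Mathlib.GroupTheory.PGroup
import Mathlib.GroupTheory.QuotientGroup.Basic
import Mathlib.GroupTheory.Subgroup.Centralizer
import Mathlib.GroupTheory.Subgroup.Simple
import Mathlib.Data.Nat.Factorization.Basic
import Mathlib.Tactic

/-! A simplicity criterion from an element of prime order with a small centraliser. -/

set_option autoImplicit false

namespace CfsgLib.Leech.Simple

variable {G : Type*} [Group G]

/-- Counting fixed points of an element of prime order acting by conjugation on an invariant subgroup. -/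
theorem card_modEq_centralizer [Finite G] {q : ℕ} [Fact q.Prime] {g : G} (hg : orderOf g = q)
    {K : Subgroup G} (hgK : g ∈ Subgroup.normalizer (K : Set G)) :
    Nat.card K ≡ Nat.card ↥(K ⊓ Subgroup.centralizer ({g} : Set G)) [MOD q] := by
  have hle : Subgroup.zpowers g ≤ Subgroup.normalizer (K : Set G) :=
    Subgroup.zpowers_le.2 hgK
  have hmem : ∀ (h : Subgroup.zpowers g) (k : K), (h : G) * k * (h : G)⁻¹ ∈ K := fun h k =>
    (Subgroup.mem_normalizer_iff.1 (hle h.2) k).1 k.2
  let _ : MulAction (Subgroup.zpowers g) K :=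
    { smul := fun h k => ⟨(h : G) * k * (h : G)⁻¹, hmem h k⟩
      one_smul := fun k => Subtype.ext (show ((1 : Subgroup.zpowers g) : G) * k * ((1 : Subgroup.zpowers g) : G)⁻¹ = k by simp)
      mul_smul := fun a b k => Subtype.ext (show ((a * b : Subgroup.zpowers g) : G) * k * ((a * b : Subgroup.zpowers g) : G)⁻¹ =
          (a : G) * ((b : G) * k * (b : G)⁻¹) * (a : G)⁻¹ by simp [mul_assoc]) }
  have hp : IsPGroup q (Subgroup.zpowers g) :=
    IsPGroup.of_card (n := 1) (by rw [Nat.card_zpowers, hg, pow_one])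
  have h := hp.card_modEq_card_fixedPoints K
  refine h.trans ?_
  unfold Nat.ModEq
  refine congrArg (· % q) ?_
  refine Nat.card_congr
    { toFun := fun k => ⟨(k.1 : G), k.1.2, Subgroup.mem_centralizer_singleton_iff.2 ?_⟩
      invFun := fun k => ⟨⟨k.1, k.2.1⟩, ?_⟩
      left_inv := fun k => rfl
      right_inv := fun k => rfl }
  · have h1 := congrArg Subtype.val (k.2 ⟨g, Subgroup.mem_zpowers g⟩)
    change g * (k.1 : G) * g⁻¹ = (k.1 : G) at h1
    rw [mul_inv_eq_iff_eq_mul] at h1
    exact h1.symm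
  · intro h
    have hc : Commute (k.1 : G) g := Subgroup.mem_centralizer_singleton_iff.1 k.2.2
    obtain ⟨n, hn⟩ := h.2
    refine Subtype.ext ?_
    show (h : G) * k.1 * (h : G)⁻¹ = k.1
    rw [← hn, mul_inv_eq_iff_eq_mul]
    exact ((hc.zpow_right n).eq).symm

/-- A small invariant subgroup of prime power order is centralised. -/
theorem le_centralizer_of_pGroup [Finite G] {q p v : ℕ} [Fact q.Prime] (hp : p.Prime) {g : G}
    (hg : orderOf g = q) {P : Subgroup G} (hgP : g ∈ Subgroup.normalizer (P : Set G)) {n : ℕ}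
    (hP : Nat.card P = p ^ n) (hn : n ≤ v) (hqp : q ≠ p)
    (hq : ∀ i < v, (p ^ (i + 1) - 1) % q ≠ 0) :
    P ≤ Subgroup.centralizer ({g} : Set G) := by
  have h := card_modEq_centralizer hg hgP
  obtain ⟨m, hm, hmc⟩ := (Nat.dvd_prime_pow hp).1
    (hP ▸ Subgroup.card_dvd_of_le (inf_le_left : P ⊓ Subgroup.centralizer ({g} : Set G) ≤ P))
  rcases eq_or_lt_of_le hm with rfl | hlt
  · have heq : P ⊓ Subgroup.centralizer ({g} : Set G) = P :=
      Subgroup.eq_of_le_of_card_ge inf_le_left (by rw [hP, hmc])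
    rw [← heq]; exact inf_le_right
  · exfalso
    rw [hP, hmc] at h
    obtain ⟨d, rfl⟩ : ∃ d, n = m + (d + 1) := ⟨n - m - 1, by omega⟩
    have h' : p ^ (d + 1) ≡ 1 [MOD q] := by
      refine Nat.ModEq.cancel_left_of_coprime (c := p ^ m) ?_ (by simpa [pow_add] using h)
      exact Nat.Coprime.pow_right m ((Nat.coprime_primes Fact.out hp).2 hqp)
    apply hq d (by omega)
    refine Nat.eq_zero_of_dvd_of_lt ?_ (Nat.mod_lt _ (Fact.out : q.Prime).pos)
    rw [Nat.dvd_mod_iff dvd_rfl]
    exact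
      (Nat.modEq_iff_dvd' (Nat.one_le_pow _ _ hp.pos)).1 h'.symm

/-- An invariant Sylow subgroup of an invariant subgroup of order prime to `q`. -/
theorem exists_invariant_sylow [Finite G] {q p : ℕ} [Fact q.Prime] [Fact p.Prime] {g : G}
    (hg : orderOf g = q) {K : Subgroup G} [K.Normal] (hK : ¬ q ∣ Nat.card K) :
    ∃ P : Sylow p K, g ∈ Subgroup.normalizer (((P : Subgroup K).map K.subtype : Subgroup G) : Set G) := by
  let φ : Subgroup.zpowers g →* MulAut K := (MulAut.conjNormal).comp (Subgroup.zpowers g).subtype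
  let _ : MulDistribMulAction (Subgroup.zpowers g) K := MulDistribMulAction.compHom K φ
  have hp : IsPGroup q (Subgroup.zpowers g) :=
    IsPGroup.of_card (n := 1) (by rw [Nat.card_zpowers, hg, pow_one])
  obtain ⟨P, hP⟩ := hp.nonempty_fixed_point_of_prime_not_dvd_card (Sylow p K) fun h =>
    hK (h.trans ((Sylow.card_dvd_index (default : Sylow p K)).trans (Subgroup.index_dvd_card _)))
  have h2 : ∀ (x : Subgroup.zpowers g) (k : K), k ∈ (P : Subgroup K) →
      φ x k ∈ (P : Subgroup K) := by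
    intro x k hk
    have h := congrArg (fun R : Sylow p K => (R : Subgroup K)) (hP x)
    rw [← h]
    exact ⟨k, hk, rfl⟩
  refine ⟨P, Subgroup.mem_normalizer_iff.2 fun y => ⟨?_, ?_⟩⟩
  · rintro ⟨k, hk, rfl⟩
    exact ⟨_, h2 ⟨g, Subgroup.mem_zpowers g⟩ k hk, rfl⟩
  · rintro ⟨k, hk, hky⟩
    refine ⟨_, h2 (⟨g, Subgroup.mem_zpowers g⟩⁻¹) k hk, ?_⟩
    show g⁻¹ * (k : G) * g⁻¹⁻¹ = y
    have hky' : (k : G) = g * y * g⁻¹ := hky
    rw [hky']; group

/-- A normal subgroup of order prime to `q` is a `2`-group when the centraliser is small. -/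
theorem isPGroup_two [Finite G] {q : ℕ} [Fact q.Prime] {g : G} (hg : orderOf g = q)
    {K : Subgroup G} [K.Normal] (hK : ¬ q ∣ Nat.card K) (L : List (ℕ × ℕ))
    (hfac : ∀ p, p.Prime → p ∣ Nat.card G → p = 2 ∨ p = q ∨ ∃ v, (p, v) ∈ L)
    (hchk : ∀ e ∈ L, ¬ e.1 ^ (e.2 + 1) ∣ Nat.card G ∧ (∀ i < e.2, (e.1 ^ (i + 1) - 1) % q ≠ 0) ∧
      ¬ e.1 ∣ Nat.card (Subgroup.centralizer ({g} : Set G))) :
    IsPGroup 2 K := by
  have key : ∀ p, p.Prime → p ∣ Nat.card K → p = 2 := by
    intro p hp hpK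
    rcases hfac p hp (hpK.trans (Subgroup.card_subgroup_dvd_card K)) with rfl | rfl | ⟨v, hv⟩
    · rfl
    · exact absurd hpK hK
    exfalso
    obtain ⟨hmax, hmod, hcent⟩ := hchk _ hv
    have : Fact p.Prime := ⟨hp⟩
    obtain ⟨P, hP⟩ := exists_invariant_sylow (p := p) hg hK
    obtain ⟨n, hn⟩ := IsPGroup.iff_card.1 P.isPGroup'
    have hcard : Nat.card ((P : Subgroup K).map K.subtype) = p ^ n :=
      (Subgroup.card_map_of_injective K.subtype_injective).trans hn
    have hnv : n ≤ v := by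
      by_contra hlt
      exact hmax (dvd_trans (pow_dvd_pow p (by omega)) (hcard ▸ Subgroup.card_subgroup_dvd_card _))
    have hqp : q ≠ p := fun e => hK (e ▸ hpK)
    have hle := le_centralizer_of_pGroup hp hg hP hcard hnv hqp hmod
    have hn0 : n = 0 := by
      by_contra h0
      exact hcent (dvd_trans (dvd_pow_self p h0) (hcard ▸ Subgroup.card_dvd_of_le hle))
    subst hn0
    have := (Sylow.dvd_card_of_dvd_card P hpK)
    rw [hn, pow_zero] at this
    exact hp.one_lt.ne' (Nat.dvd_one.1 this)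
  have hne : Nat.card K ≠ 0 := Nat.card_pos.ne'
  refine IsPGroup.of_card (n := (Nat.card K).primeFactorsList.length) ?_
  conv_lhs => rw [← Nat.prod_primeFactorsList hne]
  exact List.prod_eq_pow_card _ _ fun p hp =>
    key p (Nat.prime_of_mem_primeFactorsList hp) (Nat.dvd_of_mem_primeFactorsList hp)

/-- A normal `2`-subgroup lies in every subgroup of odd index. -/
theorem le_of_odd_index [Finite G] {K N : Subgroup G} [K.Normal] (hK : IsPGroup 2 K)
    (hN : ¬ 2 ∣ N.index) : K ≤ N := by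
  obtain ⟨n, hn⟩ := IsPGroup.iff_card.1 hK
  intro k hk
  obtain ⟨m, hm⟩ := IsPGroup.iff_card.1 (hK.to_le (inf_le_left : K ⊓ N ≤ K))
  have h : (N.subgroupOf K).index ∣ N.index := by
    show N.relIndex K ∣ N.index
    have e1 := Subgroup.card_mul_index (N.subgroupOf (K ⊔ N))
    have e2 := Subgroup.card_mul_index (K.subgroupOf (K ⊔ N))
    have e3 := Subgroup.card_mul_index (K.subgroupOf N)
    have e4 := Subgroup.card_mul_index (N.subgroupOf K)
    rw [Nat.card_congr (Subgroup.subgroupOfEquivOfLe (le_sup_right : N ≤ K ⊔ N)).toEquiv] at e1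
    rw [Nat.card_congr (Subgroup.subgroupOfEquivOfLe (le_sup_left : K ≤ K ⊔ N)).toEquiv] at e2
    rw [← Subgroup.card_map_of_injective (f := N.subtype) N.subtype_injective,
      Subgroup.subgroupOf_map_subtype] at e3
    rw [← Subgroup.card_map_of_injective (f := K.subtype) K.subtype_injective,
      Subgroup.subgroupOf_map_subtype, inf_comm] at e4
    have e5 : (K.subgroupOf (K ⊔ N)).index = (K.subgroupOf N).index :=
      Subgroup.relIndex_sup_left N K
    have key : N.relIndex K = N.relIndex (K ⊔ N) := by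
      show (N.subgroupOf K).index = (N.subgroupOf (K ⊔ N)).index
      refine Nat.eq_of_mul_eq_mul_left (Nat.card_pos (α := N)) ?_
      rw [e1, ← e2, ← e3, ← e4, e5]; ring
    rw [key]
    exact Subgroup.relIndex_dvd_index_of_le le_sup_right
  have h2 : (N.subgroupOf K).index ∣ 2 ^ n := hn ▸ Subgroup.index_dvd_card _
  obtain ⟨j, -, hj⟩ := (Nat.dvd_prime_pow Nat.prime_two).1 h2
  rcases Nat.eq_zero_or_pos j with rfl | hpos
  · rw [pow_zero, Subgroup.index_eq_one] at hj
    have : (⟨k, hk⟩ : K) ∈ N.subgroupOf K := hj ▸ Subgroup.mem_top _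
    exact this
  · exact absurd (dvd_trans (dvd_pow_self 2 hpos.ne') (hj ▸ h)) hN

/-- A normal subgroup containing a Sylow subgroup covers with its normaliser. -/
theorem eq_top_of_dvd_card [Finite G] {q : ℕ} [Fact q.Prime] {g : G} (hg : orderOf g = q)
    (hq2 : ¬ q ^ 2 ∣ Nat.card G) {K N : Subgroup G} [K.Normal] (hK : q ∣ Nat.card K)
    (hnorm : Subgroup.normalizer ((Subgroup.zpowers g : Subgroup G) : Set G) ≤ N)
    (hN : g ∈ K → N ≤ K) : K = ⊤ := by
  have hcard : Nat.card (Subgroup.zpowers g) = q := by rw [Nat.card_zpowers, hg]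
  obtain ⟨k, hk⟩ := exists_prime_orderOf_dvd_card' (G := K) q hK
  have hk' : orderOf (k : G) = q := by rw [← hk]; exact Subgroup.orderOf_coe k
  have hdvd : q ∣ Nat.card G := hg ▸ orderOf_dvd_natCard g
  have hfac : (Nat.card G).factorization q = 1 := by
    have h1 : 1 ≤ (Nat.card G).factorization q :=
      ((Nat.Prime.pow_dvd_iff_le_factorization (Fact.out : q.Prime) Nat.card_pos.ne').1
        (by rwa [pow_one]))
    by_contra hne
    exact hq2 ((Nat.Prime.pow_dvd_iff_le_factorization (Fact.out : q.Prime) Nat.card_pos.ne').2 (by omega))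
  let P : Sylow q G := Sylow.ofCard (Subgroup.zpowers g) (by rw [hcard, hfac, pow_one])
  let Q : Sylow q G := Sylow.ofCard (Subgroup.zpowers (k : G))
    (by rw [Nat.card_zpowers, hk', hfac, pow_one])
  have hgK : g ∈ K := by
    obtain ⟨c, hc⟩ := MulAction.exists_smul_eq G Q P
    have : g ∈ ((c • Q : Sylow q G) : Subgroup G) := by rw [hc]; exact Subgroup.mem_zpowers g
    rw [Sylow.coe_subgroup_smul] at this
    obtain ⟨y, hy, rfl⟩ := this
    obtain ⟨n, rfl⟩ : y ∈ Subgroup.zpowers (k : G) := hy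
    exact Subgroup.Normal.conj_mem inferInstance _ (K.zpow_mem k.2 n) c
  have hPK : (P : Subgroup G) ≤ K := Subgroup.zpowers_le.2 hgK
  have hfr := Sylow.normalizer_sup_eq_top (P.subtype hPK)
  rw [eq_top_iff]
  rw [← hfr]
  refine sup_le ?_ le_rfl
  intro x hx
  refine hN hgK (hnorm ?_)
  have e : ((P.subtype hPK : Sylow q K) : Subgroup K).map K.subtype = (P : Subgroup G) := by
    rw [Sylow.coe_subtype, Subgroup.map_subgroupOf_eq_of_le hPK]
  rwa [e] at hx

end CfsgLib.Leech.Simple
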