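import Cfsg.Agent.Lib.Leech.Order
import Cfsg.Agent.Lib.Leech.Simple.Engine
import Cfsg.Agent.Lib.Golay.OctadAut
import Cfsg.Prelude.Def_Sporadic

/-! The monomial subgroup and an element of order 23 with a small centraliser. -/

set_option autoImplicit false

namespace CfsgLib.Leech

open Cfsg CfsgLib
open scoped Pointwise

theorem monoEl_congr {a b : Equiv.Perm GolayPt} {c d : GolayPt → ZMod 2} {ha : a ∈ M24} {hb : b ∈ M24}
    {hc : c ∈ golayCode} {hd : d ∈ golayCode} (h1 : a = b) (h2 : c = d) :
    monoEl a ha c hc = monoEl b hb d hd := by subst h1; subst h2; rfl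

theorem monoEl_mul {a b : Equiv.Perm GolayPt} (ha : a ∈ M24) (hb : b ∈ M24)
    {c d : GolayPt → ZMod 2} (hc : c ∈ golayCode) (hd : d ∈ golayCode) :
    monoEl a ha c hc * monoEl b hb d hd =
      monoEl (b * a) (mul_mem hb ha) (c + d ∘ a) (golayCode.add_mem hc (mem_supports_comp ha hd)) := by
  refine Subtype.ext (Equiv.ext fun v => Subtype.ext ?_)
  show monoFun a c (monoFun b d (v : GolayPt → ℤ)) = monoFun (b * a) (c + d ∘ a) v
  funext i
  simp only [monoFun, Pi.add_apply, Function.comp_apply, Equiv.Perm.mul_apply]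
  rcases zmod_two_cases (c i) with h | h <;> rcases zmod_two_cases (d (a i)) with h' | h' <;>
    simp [h, h', CharTwo.add_self_eq_zero]

theorem monoEl_one : monoEl 1 (one_mem _) 0 (zero_mem _) = 1 :=
  Subtype.ext (Equiv.ext fun v => Subtype.ext (funext fun i => by
    show monoFun 1 0 (v : GolayPt → ℤ) i = _
    simp [monoFun]))

theorem monoEl_inv {a : Equiv.Perm GolayPt} (ha : a ∈ M24) {c : GolayPt → ZMod 2} (hc : c ∈ golayCode) :
    (monoEl a ha c hc)⁻¹ =
      monoEl a⁻¹ (inv_mem ha) (c ∘ ⇑a⁻¹) (mem_supports_comp (inv_mem ha) hc) := by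
  refine inv_eq_of_mul_eq_one_right ?_
  rw [monoEl_mul, ← monoEl_one]
  refine monoEl_congr (inv_mul_cancel a) (funext fun i => ?_)
  simp only [Pi.add_apply, Function.comp_apply, Equiv.Perm.coe_inv, Equiv.symm_apply_apply,
    Pi.zero_apply]
  exact CharTwo.add_self_eq_zero _

theorem negEl_eq_monoEl : negEl = monoEl 1 (one_mem _) 1 Golay.one_mem_golay :=
  Subtype.ext (Equiv.ext fun v => Subtype.ext (funext fun i => by
    show -(v : GolayPt → ℤ) i = monoFun 1 1 (v : GolayPt → ℤ) i
    simp [monoFun]))

theorem stdStab_iff_exists {g : Co0} :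
    StdStab g ↔ ∃ (τ : Equiv.Perm GolayPt) (hτ : τ ∈ M24) (c : GolayPt → ZMod 2) (hc : c ∈ golayCode),
      g = monoEl τ hτ c hc := by
  refine ⟨exists_mono_of_stdStab, ?_⟩
  rintro ⟨τ, hτ, c, hc, rfl⟩
  exact stdStab_monoEl hτ hc

/-- The monomial subgroup: the stabiliser of the standard cross. -/
def monoSub : Subgroup Co0 where
  carrier := {g | StdStab g}
  one_mem' := monoEl_one ▸ stdStab_monoEl _ _
  mul_mem' := fun {g h} hg hh => by
    obtain ⟨a, ha, c, hc, rfl⟩ := exists_mono_of_stdStab hg
    obtain ⟨b, hb, d, hd, rfl⟩ := exists_mono_of_stdStab hh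
    rw [monoEl_mul]; exact stdStab_monoEl _ _
  inv_mem' := fun {g} hg => by
    obtain ⟨a, ha, c, hc, rfl⟩ := exists_mono_of_stdStab hg
    show StdStab (monoEl a ha c hc)⁻¹
    rw [monoEl_inv]; exact stdStab_monoEl _ _

theorem monoEl_mem_monoSub {a : Equiv.Perm GolayPt} (ha : a ∈ M24) {c : GolayPt → ZMod 2}
    (hc : c ∈ golayCode) : monoEl a ha c hc ∈ monoSub := stdStab_monoEl ha hc

theorem negEl_mem_monoSub : negEl ∈ monoSub := negEl_eq_monoEl ▸ monoEl_mem_monoSub _ _

theorem card_monoSub : Nat.card monoSub = 4096 * 244823040 := card_stdStab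

theorem monoSub_index : monoSub.index = 8292375 := by
  have h := Subgroup.card_mul_index monoSub
  rw [card_monoSub, card_Co0] at h
  omega

/-- The translation of the 23 residues. -/
def shiftPerm : Equiv.Perm GolayPt := Equiv.optionCongr (Equiv.addRight (1 : ZMod 23))

theorem shiftPerm_mem : shiftPerm ∈ M24 := Golay.addOne_mem_M24

/-- The monomial element of order 23. -/
def shiftEl : Co0 := monoEl shiftPerm shiftPerm_mem 0 (zero_mem _)

theorem coe_shiftEl_smul (v : leechLattice) (i : GolayPt) :
    ((shiftEl • v : leechLattice) : GolayPt → ℤ) i = (v : GolayPt → ℤ) (shiftPerm i) := by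
  rw [shiftEl, coe_monoEl_smul]; simp [monoFun]

theorem shiftEl_pow (n : ℕ) :
    shiftEl ^ n = monoEl (shiftPerm ^ n) (pow_mem shiftPerm_mem n) 0 (zero_mem _) := by
  induction n with
  | zero => exact monoEl_one.symm
  | succ n ih =>
    rw [pow_succ, ih, shiftEl, monoEl_mul]
    exact monoEl_congr (pow_succ' _ _).symm (by simp)

theorem shiftPerm_pow_eq : shiftPerm ^ 23 = 1 := by
  refine Equiv.ext fun p => ?_
  revert p; decide +kernel

theorem shiftEl_ne_one : shiftEl ≠ 1 := by
  intro h
  have := congrArg (fun g : Co0 => ((g • eightVec (some 0) : leechLattice) : GolayPt → ℤ) (some 0)) h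
  simp [coe_shiftEl_smul, coe_eightVec, shiftPerm, Pi.single_apply] at this
  exact absurd this (by decide)

instance factPrimeTwentyThree : Fact (Nat.Prime 23) := ⟨by norm_num⟩

theorem orderOf_shiftEl : orderOf shiftEl = 23 := by
  refine orderOf_eq_prime ?_ shiftEl_ne_one
  rw [shiftEl_pow, ← monoEl_one]
  exact monoEl_congr shiftPerm_pow_eq rfl

theorem shiftEl_fix : shiftEl • eightVec none = eightVec none := by
  refine Subtype.ext (funext fun i => ?_)
  rw [coe_shiftEl_smul]
  rcases i with _ | i <;> simp [coe_eightVec, shiftPerm]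

theorem shiftPerm_pow_some (n : ℕ) (x : ZMod 23) : (shiftPerm ^ n) (some x) = some (x + n) := by
  induction n with
  | zero => simp
  | succ n ih =>
    rw [pow_succ', Equiv.Perm.mul_apply, ih]
    simp [shiftPerm, add_assoc]

theorem norm_plane_solutions (a b : ℤ) (h : 64 = a ^ 2 + 23 * b ^ 2) :
    b = 0 ∧ (a = 8 ∨ a = -8) := by
  have h1 : -1 ≤ b := by nlinarith [sq_nonneg a]
  have h2 : b ≤ 1 := by nlinarith [sq_nonneg a]
  have h3 : -8 ≤ a := by nlinarith [sq_nonneg b]
  have h4 : a ≤ 8 := by nlinarith [sq_nonneg b]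
  interval_cases b <;> interval_cases a <;> first | decide | omega

theorem eq_pm_eightVec_of_fixed {v : leechLattice} (hn : sqNorm (v : GolayPt → ℤ) = 64)
    (h : shiftEl • v = v) : v = eightVec none ∨ v = -eightVec none := by
  set b := (v : GolayPt → ℤ) (some 0) with hb
  have hconst : ∀ n : ℕ, (v : GolayPt → ℤ) (some (n : ZMod 23)) = b := by
    intro n
    induction n with
    | zero => simp [hb]
    | succ n ih =>
      have h1 := congrArg (fun w : leechLattice => (w : GolayPt → ℤ) (some (n : ZMod 23))) h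
      simp only [coe_shiftEl_smul, ih] at h1
      rw [Nat.cast_succ, ← h1]
      simp [shiftPerm]
  have hsum : sqNorm (v : GolayPt → ℤ) = (v : GolayPt → ℤ) none ^ 2 + 23 * b ^ 2 := by
    rw [sqNorm, Fintype.sum_option]
    congr 1
    rw [Finset.sum_congr rfl (g := fun _ => b ^ 2) (fun x _ => by
      rw [← ZMod.natCast_zmod_val x, hconst])]
    simp
  set a := (v : GolayPt → ℤ) none with ha
  rw [hn] at hsum
  have key := norm_plane_solutions a b hsum
  obtain ⟨hb0, ha8⟩ := key
  have hv : ∀ x : ZMod 23, (v : GolayPt → ℤ) (some x) = 0 := fun x => by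
    rw [← ZMod.natCast_zmod_val x, hconst, hb0]
  rcases ha8 with ha8 | ha8
  · refine Or.inl (Subtype.ext (funext fun i => ?_))
    rcases i with _ | x
    · rw [← ha, ha8]; simp [coe_eightVec]
    · rw [hv]; simp [coe_eightVec]
  · refine Or.inr (Subtype.ext (funext fun i => ?_))
    rcases i with _ | x
    · rw [← ha, ha8]; simp [coe_eightVec]
    · rw [hv]; simp [coe_eightVec]

theorem mem_or_neg_mem_stabilizer {h : Co0} (hfix : shiftEl • (h • eightVec none) = h • eightVec none) :
    h ∈ MulAction.stabilizer Co0 (eightVec none) ∨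
      negEl * h ∈ MulAction.stabilizer Co0 (eightVec none) := by
  rcases eq_pm_eightVec_of_fixed ((sqNorm_smul h _).trans (sqNorm_eightVec none)) hfix with e | e
  · exact Or.inl e
  · refine Or.inr ?_
    rw [MulAction.mem_stabilizer_iff, mul_smul, e, negEl_smul, neg_neg]

theorem normalizer_shiftEl_le :
    Subgroup.normalizer ((Subgroup.zpowers shiftEl : Subgroup Co0) : Set Co0) ≤ monoSub := by
  intro h hh
  have hz : ∀ z ∈ Subgroup.zpowers shiftEl, z • eightVec none = eightVec none :=
    fun z hz => (Subgroup.zpowers_le.2 (MulAction.mem_stabilizer_iff.2 shiftEl_fix) hz :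
      z ∈ MulAction.stabilizer Co0 (eightVec none))
  have hfix : shiftEl • (h • eightVec none) = h • eightVec none := by
    have hmem : h⁻¹ * shiftEl * h ∈ Subgroup.zpowers shiftEl := by
      have := (Subgroup.mem_normalizer_iff'.1 hh) (h⁻¹ * shiftEl)
      rw [show h * (h⁻¹ * shiftEl) = shiftEl by group] at this
      exact this.2 (Subgroup.mem_zpowers _)
    have := hz _ hmem
    rw [mul_smul, mul_smul, inv_smul_eq_iff] at this
    exact this
  rcases mem_or_neg_mem_stabilizer hfix with hs | hs
  · exact stdStab_of_fix hs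
  · have : negEl⁻¹ * (negEl * h) ∈ monoSub :=
      monoSub.mul_mem (monoSub.inv_mem negEl_mem_monoSub) (stdStab_of_fix hs)
    rwa [inv_mul_cancel_left] at this

theorem code_residues_not_mem :
    (fun p : GolayPt => if p = none then (0 : ZMod 2) else 1) ∉ golayCode := by
  intro h
  have e : hammingNorm (fun p : GolayPt => if p = none then (0 : ZMod 2) else 1) = 23 := by
    decide +kernel
  rcases Golay.weight_cases h with h' | h' | h' | h' | h' <;> omega

/-- The centraliser of the element of order 23. -/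
theorem centralizer_shiftEl_le :
    Subgroup.centralizer ({shiftEl} : Set Co0) ≤ Subgroup.zpowers (negEl * shiftEl) := by
  have hcomm : Commute negEl shiftEl := (negEl_comm shiftEl).symm
  have hneg : negEl ∈ Subgroup.zpowers (negEl * shiftEl) := by
    refine ⟨(23 : ℕ), ?_⟩
    show (negEl * shiftEl) ^ ((23 : ℕ) : ℤ) = negEl
    rw [zpow_natCast, hcomm.mul_pow, show shiftEl ^ 23 = 1 from orderOf_shiftEl ▸ pow_orderOf_eq_one shiftEl,
      mul_one, pow_succ, show (22 : ℕ) = 2 * 11 from rfl, pow_mul, pow_two, sq_negEl, one_pow, one_mul]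
  have hshift : shiftEl ∈ Subgroup.zpowers (negEl * shiftEl) := by
    have h := (Subgroup.zpowers (negEl * shiftEl)).mul_mem
      ((Subgroup.zpowers (negEl * shiftEl)).inv_mem hneg) (Subgroup.mem_zpowers (negEl * shiftEl))
    rwa [inv_mul_cancel_left] at h
  intro h hh
  rw [Subgroup.mem_centralizer_singleton_iff] at hh
  suffices H : ∀ k : Co0, k * shiftEl = shiftEl * k → k ∈ MulAction.stabilizer Co0 (eightVec none) →
      k ∈ Subgroup.zpowers (negEl * shiftEl) by
    rcases mem_or_neg_mem_stabilizer (h := h) (by rw [← mul_smul, ← hh, mul_smul, shiftEl_fix]) with hs | hs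
    · exact H h hh hs
    · have h1 := H (negEl * h) (by rw [mul_assoc, hh, ← mul_assoc, hcomm.eq, mul_assoc]) hs
      have := (Subgroup.zpowers (negEl * shiftEl)).mul_mem
        ((Subgroup.zpowers (negEl * shiftEl)).inv_mem hneg) h1
      rwa [inv_mul_cancel_left] at this
  intro k hk hs
  obtain ⟨τ, hτ, c, hc, hτ0, hc0, rfl⟩ := mem_stabilizer_eightVec.1 hs
  rw [shiftEl, monoEl_mul, monoEl_mul] at hk
  have hk' := monoMap_injective
    (a₁ := (⟨shiftPerm * τ, mul_mem shiftPerm_mem hτ⟩, ⟨c + (0 : GolayPt → ZMod 2) ∘ τ,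
      golayCode.add_mem hc (mem_supports_comp hτ (zero_mem _))⟩))
    (a₂ := (⟨τ * shiftPerm, mul_mem hτ shiftPerm_mem⟩, ⟨0 + c ∘ shiftPerm,
      golayCode.add_mem (zero_mem _) (mem_supports_comp shiftPerm_mem hc)⟩)) hk
  simp only [Prod.mk.injEq, Subtype.mk.injEq] at hk'
  obtain ⟨hτc, hcc⟩ := hk'
  have hcc' : ∀ p, c p = c (shiftPerm p) := fun p => by simpa using congrFun hcc p
  have hc' : ∀ n : ℕ, c (some (n : ZMod 23)) = c (some 0) := by
    intro n
    induction n with
    | zero => simp
    | succ n ih =>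
      rw [← ih, hcc' (some (n : ZMod 23))]
      simp [shiftPerm]
  have hczero : c = 0 := by
    rcases zmod_two_cases (c (some 0)) with e | e
    · funext p
      rcases p with _ | x
      · exact hc0
      · rw [← ZMod.natCast_zmod_val x, hc', e]; rfl
    · refine absurd hc ?_
      have : c = fun p : GolayPt => if p = none then (0 : ZMod 2) else 1 := by
        funext p
        rcases p with _ | x
        · simpa using hc0
        · rw [← ZMod.natCast_zmod_val x, hc', e]; simp
      exact this ▸ code_residues_not_mem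
  obtain ⟨k, hk⟩ : ∃ k : ℕ, τ (some 0) = some (k : ZMod 23) := by
    rcases hp : τ (some 0) with _ | x
    · have := τ.injective (hp.trans hτ0.symm); simp at this
    · exact ⟨x.val, by rw [ZMod.natCast_zmod_val]⟩
  have hpow : τ = shiftPerm ^ k := by
    have step : ∀ n : ℕ, τ (some (n : ZMod 23)) = some ((n : ZMod 23) + k) := by
      intro n
      induction n with
      | zero => simpa using hk
      | succ n ih =>
        have h1 := congrArg (fun σ : Equiv.Perm GolayPt => σ (some (n : ZMod 23))) hτc
        simp only [Equiv.Perm.mul_apply, ih] at h1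
        rw [show (some ((n + 1 : ℕ) : ZMod 23) : GolayPt) = shiftPerm (some (n : ZMod 23)) by
          simp [shiftPerm], ← h1]
        simp [shiftPerm]; ring
    refine Equiv.ext fun p => ?_
    rcases p with _ | x
    · rw [hτ0]
      symm
      have : ∀ n : ℕ, (shiftPerm ^ n) none = none := by
        intro n
        induction n with
        | zero => rfl
        | succ n ih => rw [pow_succ', Equiv.Perm.mul_apply, ih]; rfl
      exact this k
    · rw [shiftPerm_pow_some, ← ZMod.natCast_zmod_val x, step]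
  have : monoEl τ hτ c hc = shiftEl ^ k := by
    rw [shiftEl_pow]; exact monoEl_congr hpow hczero
  rw [this]
  exact (Subgroup.zpowers (negEl * shiftEl)).pow_mem hshift k

theorem card_centralizer_shiftEl_dvd :
    Nat.card (Subgroup.centralizer ({shiftEl} : Set Co0)) ∣ 46 := by
  refine (Subgroup.card_dvd_of_le centralizer_shiftEl_le).trans ?_
  rw [Nat.card_zpowers]
  refine orderOf_dvd_of_pow_eq_one ?_
  rw [Commute.mul_pow (negEl_comm shiftEl).symm, show (46 : ℕ) = 2 * 23 from rfl, pow_mul, pow_two,
    sq_negEl, one_pow, mul_comm 2 23, pow_mul,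
    show shiftEl ^ 23 = 1 from orderOf_shiftEl ▸ pow_orderOf_eq_one shiftEl, one_pow, one_mul]

end CfsgLib.Leech
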