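import Cfsg.Agent.Lib.Leech.Simple.Mono

/-! Normal subgroups of the automorphism group of the lattice. -/

set_option autoImplicit false

namespace CfsgLib.Leech

open Cfsg CfsgLib
open scoped Pointwise

theorem monoEl_mem_congr {K : Subgroup Co0} {a b : Equiv.Perm GolayPt} {c d : GolayPt → ZMod 2}
    {ha : a ∈ M24} {hb : b ∈ M24} {hc : c ∈ golayCode} {hd : d ∈ golayCode}
    (h : monoEl a ha c hc ∈ K) (h1 : a = b) (h2 : c = d) : monoEl b hb d hd ∈ K :=
  monoEl_congr (hb := hb) (hd := hd) h1 h2 ▸ h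

/-- The permutations occurring in the monomial part of a subgroup. -/
def permPart (K : Subgroup Co0) : Subgroup M24 where
  carrier := {σ | ∃ c, ∃ hc : c ∈ golayCode, monoEl (σ : Equiv.Perm GolayPt) σ.2 c hc ∈ K}
  one_mem' := ⟨0, zero_mem _, monoEl_one.symm ▸ K.one_mem⟩
  mul_mem' := fun {a b} ⟨c, hc, hck⟩ ⟨d, hd, hdk⟩ => by
    have h := K.mul_mem hdk hck
    rw [monoEl_mul] at h
    exact ⟨_, _, h⟩
  inv_mem' := fun {a} ⟨c, hc, hck⟩ => by
    have h := K.inv_mem hck
    rw [monoEl_inv] at h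
    exact ⟨_, _, h⟩

theorem normal_permPart (K : Subgroup Co0) [K.Normal] : (permPart K).Normal := by
  refine ⟨fun n ⟨c, hc, hck⟩ g => ?_⟩
  have h := Subgroup.Normal.conj_mem inferInstance _ hck
    ((monoEl (g : Equiv.Perm GolayPt) g.2 0 (zero_mem _))⁻¹)
  rw [inv_inv, monoEl_inv, monoEl_mul, monoEl_mul] at h
  refine ⟨_, ?_, monoEl_mem_congr h ?_ rfl⟩
  · exact golayCode.add_mem (golayCode.add_mem (mem_supports_comp (inv_mem g.2) (zero_mem _))
      (mem_supports_comp (inv_mem g.2) hc)) (mem_supports_comp (mul_mem n.2 (inv_mem g.2)) (zero_mem _))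
  · simp [mul_assoc]

/-- The code words occurring as sign changes in a subgroup. -/
def signPart (K : Subgroup Co0) : Submodule (ZMod 2) (GolayPt → ZMod 2) where
  carrier := {c | ∃ hc : c ∈ golayCode, monoEl 1 (one_mem _) c hc ∈ K}
  zero_mem' := ⟨zero_mem _, monoEl_one.symm ▸ K.one_mem⟩
  add_mem' := fun {c d} ⟨hc, hck⟩ ⟨hd, hdk⟩ => by
    have h := K.mul_mem hck hdk
    rw [monoEl_mul] at h
    exact ⟨golayCode.add_mem hc hd, monoEl_mem_congr h (one_mul 1) rfl⟩
  smul_mem' := fun a c ⟨hc, hck⟩ => by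
    rcases zmod_two_cases a with rfl | rfl
    · exact ⟨golayCode.smul_mem (0 : ZMod 2) hc, monoEl_mem_congr
        (monoEl_one.symm ▸ K.one_mem : monoEl 1 (one_mem _) 0 (zero_mem _) ∈ K) rfl
        (zero_smul (ZMod 2) c).symm⟩
    · exact ⟨golayCode.smul_mem (1 : ZMod 2) hc, monoEl_mem_congr hck rfl (one_smul (ZMod 2) c).symm⟩

theorem signPart_le (K : Subgroup Co0) : signPart K ≤ golayCode := fun _ h => h.1

theorem add_comp_mem_signPart (K : Subgroup Co0) [K.Normal] {τ : Equiv.Perm GolayPt} {hτ : τ ∈ M24}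
    {c : GolayPt → ZMod 2} {hc : c ∈ golayCode} (hk : monoEl τ hτ c hc ∈ K)
    {d : GolayPt → ZMod 2} (hd : d ∈ golayCode) : d + d ∘ τ ∈ signPart K := by
  have h := K.mul_mem (Subgroup.Normal.conj_mem inferInstance _ hk (monoEl 1 (one_mem _) d hd))
    (K.inv_mem hk)
  rw [monoEl_inv, monoEl_inv, monoEl_mul, monoEl_mul, monoEl_mul] at h
  refine ⟨golayCode.add_mem hd (mem_supports_comp hτ hd), monoEl_mem_congr h ?_ ?_⟩
  · simp
  · funext i
    simp only [Pi.add_apply, Function.comp_apply, Equiv.Perm.coe_one, id_eq, Equiv.Perm.mul_apply,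
      inv_one, one_mul, mul_one, Equiv.Perm.coe_inv, Equiv.symm_apply_apply]
    generalize d i = u; generalize d (τ i) = v; generalize c i = w
    revert u v w; decide

theorem octad_pair_check :
    Golay.pc24 (Golay.comb 1) = 8 ∧ Golay.pc24 (Golay.comb 2) = 8 ∧
      Golay.pc24 (Golay.comb 3) = 8 := by decide +kernel

theorem toWord_comb_octad {x : ℕ} (hx : x < 2 ^ 12) (h : Golay.pc24 (Golay.comb x) = 8) :
    Golay.toSet (Golay.comb x) ∈ octads :=
  Golay.mem_wordsOfWeight_iff.2 ⟨x, hx, by rwa [Golay.pc24_eq] at h, rfl⟩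

theorem exists_word_smul {m n : ℕ} (hm : Golay.toSet m ∈ octads) (hn : Golay.toSet n ∈ octads) :
    ∃ τ ∈ M24, Golay.toWord n = Golay.toWord m ∘ τ := by
  obtain ⟨σ, hσ, h⟩ := Golay.exists_smul_octad hn hm
  refine ⟨σ, hσ, Golay.support₂_injective ?_⟩
  show support₂ (Golay.toWord n) = support₂ (fun p => Golay.toWord m (σ p))
  rw [Golay.support₂_comp, Golay.support₂_toWord, Golay.support₂_toWord, ← h, inv_smul_smul]

theorem monoSub_le_of_shiftEl_mem (hM24 : IsSimpleGroup M24) (K : Subgroup Co0) [K.Normal]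
    (hg : shiftEl ∈ K) : monoSub ≤ K := by
  have : (permPart K).Normal := normal_permPart K
  have htop : permPart K = ⊤ := by
    refine (hM24.eq_bot_or_eq_top_of_normal _ this).resolve_left fun hbot => ?_
    have h1 : (⟨shiftPerm, shiftPerm_mem⟩ : M24) ∈ permPart K := ⟨0, zero_mem _, hg⟩
    rw [hbot, Subgroup.mem_bot] at h1
    have := congrArg (fun σ : M24 => (σ : Equiv.Perm GolayPt) (some 0)) h1
    simp [shiftPerm] at this
  have hmove : ∀ τ ∈ M24, ∀ d ∈ golayCode, d + d ∘ τ ∈ signPart K := by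
    intro τ hτ d hd
    obtain ⟨c, hc, hck⟩ : (⟨τ, hτ⟩ : M24) ∈ permPart K := htop ▸ Subgroup.mem_top _
    exact add_comp_mem_signPart K hck hd
  have hall : golayCode ≤ signPart K := by
    have o1 := toWord_comb_octad (x := 1) (by norm_num) octad_pair_check.1
    have o2 := toWord_comb_octad (x := 2) (by norm_num) octad_pair_check.2.1
    have o3 := toWord_comb_octad (x := 3) (by norm_num) octad_pair_check.2.2
    obtain ⟨τ, hτ, h12⟩ := exists_word_smul o1 o2
    have h3 : Golay.toWord (Golay.comb 3) ∈ signPart K := by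
      have := hmove τ hτ _ (Golay.toWord_comb_mem 1)
      rw [← h12, ← Golay.toWord_xor, ← Golay.comb_xor] at this
      exact this
    intro w hw
    obtain ⟨x, -, rfl⟩ := Golay.mem_golay_iff.1 hw
    refine Golay.toWord_comb_mem_of (fun b hb => ?_) x
    obtain ⟨y, hy, hyb⟩ := Golay.mem_golay_iff.1 (Golay.basis_mem hb)
    have hyo : Golay.toSet (Golay.comb y) ∈ octads := by
      rw [← Golay.support₂_toWord, hyb, Golay.support₂_toWord]; exact Golay.basis_octad hb
    obtain ⟨τ', hτ', h3y⟩ := exists_word_smul o3 hyo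
    rw [← hyb, h3y]
    have := (signPart K).add_mem h3 (hmove τ' hτ' _ (signPart_le K h3))
    rwa [← add_assoc, show Golay.toWord (Golay.comb 3) + Golay.toWord (Golay.comb 3) = 0 from
      funext fun i => CharTwo.add_self_eq_zero _, zero_add] at this
  intro g hg'
  obtain ⟨τ, hτ, c, hc, rfl⟩ := exists_mono_of_stdStab hg'
  obtain ⟨c', hc', hk⟩ : (⟨τ, hτ⟩ : M24) ∈ permPart K := htop ▸ Subgroup.mem_top _
  obtain ⟨he, hek⟩ := hall (golayCode.add_mem hc hc')
  have h := K.mul_mem hek hk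
  rw [monoEl_mul] at h
  refine monoEl_mem_congr h ?_ ?_
  · exact mul_one τ
  · funext i
    simp only [Pi.add_apply, Function.comp_apply, Equiv.Perm.coe_one, id_eq]
    rcases zmod_two_cases (c i) with e | e <;> rcases zmod_two_cases (c' i) with e' | e' <;> simp [e, e', CharTwo.add_self_eq_zero]

theorem xiEl_not_stdStab : ¬ StdStab xiEl := by
  intro h
  obtain ⟨i, s, hs, he⟩ := (stdStab_iff xiEl).1 h none
  rw [coe_xiEl_smul, coe_eightVec] at he
  have key : ∀ p : GolayPt, sextetLab p = sextetLab none → xiFun (Pi.single none 8) p ≠ 0 := by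
    decide +kernel
  obtain ⟨p, q, hpq, hp, hq⟩ : ∃ p q : GolayPt, p ≠ q ∧ sextetLab p = sextetLab none ∧
      sextetLab q = sextetLab none :=
    ⟨none, some 0, by simp, rfl, by decide +kernel⟩
  have h1 := key p hp
  have h2 := key q hq
  rw [he] at h1 h2
  simp only [Pi.single_apply] at h1 h2
  exact hpq ((ne_of_apply_ne_aux h1).trans (ne_of_apply_ne_aux h2).symm)
where
  ne_of_apply_ne_aux {a b : GolayPt} {s : ℤ} (h : (if a = b then s else 0) ≠ 0) : a = b := by
    by_contra hne; rw [if_neg hne] at h; exact h rfl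

theorem eq_of_prime_dvd_prod {p : ℕ} (hp : p.Prime) (L : List (ℕ × ℕ)) (hL : ∀ e ∈ L, e.1.Prime)
    (h : p ∣ (L.map fun e => e.1 ^ e.2).prod) : ∃ v, (p, v) ∈ L := by
  obtain ⟨x, hx, hpx⟩ := (Prime.dvd_prod_iff hp.prime).1 h
  obtain ⟨e, he, rfl⟩ := List.mem_map.1 hx
  exact ⟨e.2, by rw [(Nat.prime_dvd_prime_iff_eq hp (hL e he)).1 (hp.dvd_of_dvd_pow hpx)]; exact he⟩

theorem card_Co0_factor : (8315553613086720000 : ℕ) =
    (([(2, 22), (3, 9), (5, 4), (7, 2), (11, 1), (13, 1), (23, 1)] : List (ℕ × ℕ)).map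
      fun e => e.1 ^ e.2).prod := by decide +kernel

theorem card_Co0_facts :
    ∀ p : ℕ, p.Prime → p ∣ Nat.card Co0 → p = 2 ∨ p = 23 ∨
      ∃ v, (p, v) ∈ [(3, 9), (5, 4), (7, 2), (11, 1), (13, 1)] := by
  intro p hp hdvd
  rw [card_Co0, card_Co0_factor] at hdvd
  obtain ⟨v, hv⟩ := eq_of_prime_dvd_prod hp _ (by
    intro e he; simp only [List.mem_cons, List.not_mem_nil, or_false] at he
    rcases he with rfl | rfl | rfl | rfl | rfl | rfl | rfl <;> norm_num) hdvd
  rcases List.mem_cons.1 hv with h | hv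
  · exact Or.inl (congrArg Prod.fst h)
  rcases List.eq_or_mem_of_mem_cons hv with h | hv
  · exact Or.inr (Or.inr ⟨9, by simp [show p = 3 from congrArg Prod.fst h]⟩)
  simp only [List.mem_cons, List.not_mem_nil, or_false, Prod.mk.injEq] at hv
  rcases hv with h | h | h | h | h <;> simp [h.1]

theorem normal_subgroup_cases (hM24 : IsSimpleGroup M24) (K : Subgroup Co0) [K.Normal] :
    K = ⊤ ∨ (K : Set Co0) ⊆ {1, negEl} := by
  by_cases h23 : 23 ∣ Nat.card K
  · exact Or.inl (Simple.eq_top_of_dvd_card orderOf_shiftEl (by rw [card_Co0]; norm_num) h23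
      normalizer_shiftEl_le (monoSub_le_of_shiftEl_mem hM24 K))
  right
  have h2 : IsPGroup 2 K := Simple.isPGroup_two orderOf_shiftEl h23 _ card_Co0_facts (by
    have hc : ∀ p : ℕ, ¬ p ∣ 46 → ¬ p ∣ Nat.card (Subgroup.centralizer ({shiftEl} : Set Co0)) :=
      fun p hp h => hp (h.trans card_centralizer_shiftEl_dvd)
    intro e he
    simp only [List.mem_cons, List.not_mem_nil, or_false] at he
    rcases he with rfl | rfl | rfl | rfl | rfl <;>
      refine ⟨by rw [card_Co0]; norm_num, fun i hi => ?_, hc _ (by norm_num)⟩ <;>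
      (dsimp only at hi ⊢; interval_cases i <;> norm_num))
  have hle : K ≤ monoSub := Simple.le_of_odd_index h2 (by rw [monoSub_index]; norm_num)
  have : (permPart K).Normal := normal_permPart K
  have hbot : permPart K = ⊥ := by
    refine (hM24.eq_bot_or_eq_top_of_normal _ this).resolve_right fun htop => ?_
    obtain ⟨c, hc, hk⟩ : (⟨shiftPerm, shiftPerm_mem⟩ : M24) ∈ permPart K := htop ▸ Subgroup.mem_top _
    obtain ⟨n, hn⟩ := h2 ⟨_, hk⟩
    have hn' : (monoEl shiftPerm shiftPerm_mem c hc) ^ 2 ^ n = 1 := congrArg Subtype.val hn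
    have hp : ∀ m : ℕ, ∃ d, ∃ hd : d ∈ golayCode, (monoEl shiftPerm shiftPerm_mem c hc) ^ m =
        monoEl (shiftPerm ^ m) (pow_mem shiftPerm_mem m) d hd := by
      intro m
      induction m with
      | zero => exact ⟨0, zero_mem _, monoEl_one.symm⟩
      | succ m ih =>
        obtain ⟨d, hd, e⟩ := ih
        refine ⟨_, golayCode.add_mem hd (mem_supports_comp (pow_mem shiftPerm_mem m) hc), ?_⟩
        rw [pow_succ, e, monoEl_mul]
        exact monoEl_congr (pow_succ' _ _).symm rfl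
    obtain ⟨d, hd, e⟩ := hp (2 ^ n)
    rw [e, ← monoEl_one] at hn'
    have hinj := monoMap_injective
      (a₁ := (⟨shiftPerm ^ 2 ^ n, pow_mem shiftPerm_mem _⟩, ⟨d, hd⟩))
      (a₂ := (⟨1, one_mem _⟩, ⟨0, zero_mem _⟩)) hn'
    simp only [Prod.mk.injEq, Subtype.mk.injEq] at hinj
    have h0 := congrArg (fun σ : Equiv.Perm GolayPt => σ (some 0)) hinj.1
    simp only [shiftPerm_pow_some, zero_add, Equiv.Perm.coe_one, id_eq, Option.some.injEq] at h0
    rw [ZMod.natCast_eq_zero_iff] at h0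
    exact absurd ((Fact.out : Nat.Prime 23).dvd_of_dvd_pow h0) (by norm_num)
  have hdiag : ∀ k ∈ K, ∃ c ∈ signPart K, ∃ hc : c ∈ golayCode, k = monoEl 1 (one_mem _) c hc := by
    intro k hk
    obtain ⟨τ, hτ, c, hc, rfl⟩ := exists_mono_of_stdStab (hle hk)
    have h1 : (⟨τ, hτ⟩ : M24) ∈ permPart K := ⟨c, hc, hk⟩
    rw [hbot, Subgroup.mem_bot] at h1
    obtain rfl : τ = 1 := congrArg Subtype.val h1
    exact ⟨c, ⟨hc, hk⟩, hc, rfl⟩
  by_contra hns
  obtain ⟨k, hk, hk'⟩ := Set.not_subset.1 hns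
  obtain ⟨c, hcs, hc, rfl⟩ := hdiag k hk
  obtain ⟨p, q, hpq⟩ : ∃ p q, c p ≠ c q := by
    by_contra hall
    push Not at hall
    apply hk'
    rcases zmod_two_cases (c none) with e | e
    · left
      rw [← monoEl_one]
      exact monoEl_congr rfl (funext fun i => (hall i none).trans e)
    · right
      rw [Set.mem_singleton_iff, negEl_eq_monoEl]
      exact monoEl_congr rfl (funext fun i => (hall i none).trans e)
  have hsep : ∀ i j : GolayPt, i ≠ j → ∃ d ∈ signPart K, d i ≠ d j := by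
    intro i j hij
    obtain ⟨τ, hτ, hmap⟩ := Golay.exists_map_M24 (xs := [i, j]) (ys := [p, q])
      (by simp [hij]) (by simp; exact fun e => hpq (by rw [e])) (by simp) (by simp)
    simp only [List.map_cons, List.map_nil, List.cons.injEq, and_true] at hmap
    obtain ⟨hc2, hck⟩ := hcs
    have h := Subgroup.Normal.conj_mem inferInstance _ hck (monoEl τ hτ 0 (zero_mem _))
    rw [monoEl_inv, monoEl_mul, monoEl_mul] at h
    refine ⟨c ∘ τ, ⟨mem_supports_comp hτ hc2, monoEl_mem_congr h ?_ ?_⟩, ?_⟩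
    · simp
    · funext x; simp
    · simpa [hmap.1, hmap.2] using hpq
  apply xiEl_not_stdStab
  rw [stdStab_iff]
  intro i
  set v := xiEl • eightVec i with hv
  have heig : ∀ d ∈ signPart K, ∀ a b, (v : GolayPt → ℤ) a ≠ 0 → (v : GolayPt → ℤ) b ≠ 0 → d a = d b := by
    intro d ⟨hd, hdk⟩ a b ha hb
    have hconj : xiEl⁻¹ * monoEl 1 (one_mem _) d hd * xiEl ∈ K := by
      simpa using Subgroup.Normal.conj_mem inferInstance _ hdk xiEl⁻¹
    obtain ⟨e, -, he, heq⟩ := hdiag _ hconj
    have hvd : monoEl 1 (one_mem _) d hd • v = xiEl • monoEl 1 (one_mem _) e he • eightVec i := by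
      rw [hv, ← mul_smul, ← mul_smul, ← heq]; simp [mul_assoc]
    have hsign : monoEl 1 (one_mem _) e he • eightVec i =
        (if e i = 1 then (-1 : ℤ) else 1) • eightVec i := by
      refine Subtype.ext ?_
      rw [coe_monoEl_smul, AddSubgroupClass.coe_zsmul, coe_eightVec, monoFun_single]
      simp only [inv_one, Equiv.Perm.coe_one, id_eq]
      split <;> simp [← Pi.single_neg]
    rw [hsign, smul_zsmul'] at hvd
    have hfa := congrArg (fun w : leechLattice => (w : GolayPt → ℤ) a) hvd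
    have hfb := congrArg (fun w : leechLattice => (w : GolayPt → ℤ) b) hvd
    simp only [coe_monoEl_smul, monoFun, Equiv.Perm.coe_one, id_eq, AddSubgroupClass.coe_zsmul,
      Pi.smul_apply, smul_eq_mul, ← hv] at hfa hfb
    rcases zmod_two_cases (d a) with e1 | e1 <;> rcases zmod_two_cases (d b) with e2 | e2 <;>
      rw [e1, e2] <;> simp only [e1, e2] at hfa hfb <;>
      rcases zmod_two_cases (e i) with e3 | e3 <;> simp [e3] at hfa hfb <;> omega
  obtain ⟨a, ha⟩ : ∃ a, (v : GolayPt → ℤ) a ≠ 0 := by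
    by_contra hall
    push Not at hall
    have := (sqNorm_smul xiEl (eightVec i)).trans (sqNorm_eightVec i)
    rw [← hv] at this
    simp [sqNorm, hall] at this
  have hone : ∀ b, b ≠ a → (v : GolayPt → ℤ) b = 0 := by
    intro b hb
    by_contra hb0
    obtain ⟨d, hd, hne⟩ := hsep b a hb
    exact hne (heig d hd b a hb0 ha)
  have hn := (sqNorm_smul xiEl (eightVec i)).trans (sqNorm_eightVec i)
  rw [← hv, sqNorm, Finset.sum_eq_single a (fun b _ hb => by rw [hone b hb]; rfl)
    (fun h => absurd (Finset.mem_univ a) h)] at hn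
  refine ⟨a, (v : GolayPt → ℤ) a, sq_eq_sq_iff_eq_or_eq_neg.1 (hn.trans (by norm_num)), ?_⟩
  funext b
  by_cases hb : b = a
  · subst hb; simp
  · rw [hone b hb]; simp [hb]

theorem co1_simple (hM24 : IsSimpleGroup M24) : IsCo1 (Co0 ⧸ Subgroup.center Co0) := by
  have hcard : Nat.card (Co0 ⧸ Subgroup.center Co0) = 4157776806543360000 := by
    have h := Subgroup.card_eq_card_quotient_mul_card_subgroup (Subgroup.center Co0)
    rw [card_Co0, card_center] at h
    omega
  refine ⟨?_, hcard⟩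
  have : Nontrivial (Co0 ⧸ Subgroup.center Co0) := Finite.one_lt_card_iff_nontrivial.1 (by omega)
  refine { eq_bot_or_eq_top_of_normal := fun H hH => ?_ }
  rcases normal_subgroup_cases hM24 (H.comap (QuotientGroup.mk' (Subgroup.center Co0))) with h | h
  · right
    rw [eq_top_iff]
    intro x _
    obtain ⟨g, rfl⟩ := QuotientGroup.mk'_surjective _ x
    exact (show g ∈ H.comap _ from h ▸ Subgroup.mem_top g)
  · left
    rw [eq_bot_iff]
    intro x hx
    obtain ⟨g, rfl⟩ := QuotientGroup.mk'_surjective _ x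
    rw [Subgroup.mem_bot, QuotientGroup.mk'_apply, QuotientGroup.eq_one_iff]
    have hg : g ∈ ({1, negEl} : Set Co0) := h hx
    rw [← center_eq] at hg
    exact hg

end CfsgLib.Leech
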