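import Cfsg.Agent.Lib.Leech.Simple.McLHS
import Cfsg.Agent.Lib.Leech.Stab.HSPairs
import Cfsg.Agent.Lib.Leech.Stab.McLOrbits

/-! The orders and the simplicity of the stabilisers of the pairs of vectors giving McL and HS. -/

set_option autoImplicit false

namespace CfsgLib.Leech

open Cfsg CfsgLib

/-- The pair stabiliser as the stabiliser of the second vector in that of the first. -/
theorem card_pairStab_mul (u v : leechLattice) {S : Set leechLattice}
    (hsub : ∀ g : Co0, g • u = u → ∀ x ∈ S, g • x ∈ S) (hv : v ∈ S)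
    (htr : ∀ x ∈ S, ∃ g : Co0, g • u = u ∧ g • v = x) :
    Nat.card (pairStab u v) * S.ncard = Nat.card (MulAction.stabilizer Co0 u) := by
  have hst : MulAction.stabilizer (MulAction.stabilizer Co0 u) v =
      (pairStab u v).subgroupOf (MulAction.stabilizer Co0 u) := by
    ext g
    rw [MulAction.mem_stabilizer_iff, Subgroup.mem_subgroupOf]
    exact ⟨fun h => ⟨g.2, h⟩, fun h => h.2⟩
  have horb : MulAction.orbit (MulAction.stabilizer Co0 u) v = S := by
    ext x
    constructor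
    · rintro ⟨g, rfl⟩
      exact hsub g g.2 v hv
    · intro hx
      obtain ⟨g, hgu, hgv⟩ := htr x hx
      exact ⟨⟨g, hgu⟩, hgv⟩
  have h := Subgroup.card_mul_index (MulAction.stabilizer (MulAction.stabilizer Co0 u) v)
  rw [MulAction.index_stabilizer, horb, hst, Nat.card_congr (Subgroup.subgroupOfEquivOfLe
    (show pairStab u v ≤ MulAction.stabilizer Co0 u from inf_le_left)).toEquiv] at h
  exact h

theorem card_pair_mcl {v w : leechLattice} (hv : sqNorm (v : GolayPt → ℤ) = 32)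
    (hw : sqNorm (w : GolayPt → ℤ) = 32) (hd : dotInt (v : GolayPt → ℤ) (w : GolayPt → ℤ) = -8) :
    Nat.card (pairStab v w) = 898128000 := by
  set u := v + w with hu
  have hun : sqNorm (u : GolayPt → ℤ) = 48 := by
    rw [hu, AddSubgroup.coe_add, sqNorm_add, hv, hw, hd]; norm_num
  have hvu : dotInt (v : GolayPt → ℤ) (u : GolayPt → ℤ) = 24 := by
    rw [hu, AddSubgroup.coe_add, Stab.dot_comm, Stab.dot_add_left, Stab.dotInt_self, hv,
      Stab.dot_comm (w : GolayPt → ℤ), hd]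
    norm_num
  have heq : pairStab u v = pairStab v w := by
    ext g
    constructor
    · rintro ⟨h1, h2⟩
      refine ⟨h2, ?_⟩
      have h1' : g • u = u := h1
      have h2' : g • v = v := h2
      rw [hu, smul_add', h2'] at h1'
      exact add_left_cancel h1'
    · rintro ⟨h1, h2⟩
      refine ⟨?_, h1⟩
      show g • u = u
      rw [hu, smul_add', show g • v = v from h1, show g • w = w from h2]
  have h := card_pairStab_mul u v
    (S := {x | sqNorm (x : GolayPt → ℤ) = 32 ∧ sqNorm ((u : GolayPt → ℤ) - (x : GolayPt → ℤ)) = 32})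
    (fun g hg x hx => ⟨(sqNorm_smul g x).trans hx.1, ?_⟩) ⟨hv, (Stab.norm_sub_iff hun hv).2 hvu⟩
    (fun x hx => Stab.transitive_summands hun hv hvu hx.1 ((Stab.norm_sub_iff hun hx.1).1 hx.2))
  · rw [Stab.ncard_summands u hun, card_stabilizer48 hun, heq] at h
    omega
  · rw [Stab.norm_sub_iff hun ((sqNorm_smul g x).trans hx.1), ← hg, dotInt_smul]
    exact (Stab.norm_sub_iff hun hx.1).1 hx.2

theorem card_pair_hs {v w : leechLattice} (hv : sqNorm (v : GolayPt → ℤ) = 48)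
    (hw : sqNorm (w : GolayPt → ℤ) = 48) (hd : dotInt (v : GolayPt → ℤ) (w : GolayPt → ℤ) = -32) :
    Nat.card (pairStab v w) = 44352000 := by
  set x := -(v + w) with hx
  have hxn : sqNorm (x : GolayPt → ℤ) = 32 := by
    rw [hx, AddSubgroup.coe_neg, sqNorm_neg, AddSubgroup.coe_add, sqNorm_add, hv, hw, hd]
    norm_num
  have hxv : dotInt (v : GolayPt → ℤ) (x : GolayPt → ℤ) = -16 := by
    rw [Stab.dot_comm, hx, AddSubgroup.coe_neg, Stab.dot_neg_left, AddSubgroup.coe_add,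
      Stab.dot_add_left, Stab.dotInt_self, hv, Stab.dot_comm (w : GolayPt → ℤ), hd]
    norm_num
  have heq : pairStab v x = pairStab v w := by
    ext g
    constructor
    · rintro ⟨h1, h2⟩
      refine ⟨h1, ?_⟩
      have h1' : g • v = v := h1
      have h2' : g • x = x := h2
      rw [hx, smul_neg', neg_inj, smul_add', h1'] at h2'
      exact add_left_cancel h2'
    · rintro ⟨h1, h2⟩
      refine ⟨h1, ?_⟩
      show g • x = x
      rw [hx, smul_neg', smul_add', show g • v = v from h1, show g • w = w from h2]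
  obtain ⟨hcard, htr⟩ := Stab.transitive_eleven hv
  have h := card_pairStab_mul v x
    (S := {y | sqNorm (y : GolayPt → ℤ) = 32 ∧ dotInt (v : GolayPt → ℤ) (y : GolayPt → ℤ) = -16})
    (fun g hg y hy => ⟨(sqNorm_smul g y).trans hy.1, by rw [← hg, dotInt_smul]; exact hy.2⟩)
    ⟨hxn, hxv⟩ (fun y hy => htr x y hxn hxv hy.1 hy.2)
  rw [hcard, card_stabilizer48 hv, heq] at h
  omega

theorem dots_mcl : sqNorm (vecMcL : GolayPt → ℤ) = 32 ∧
    dotInt (vecCo2 : GolayPt → ℤ) (vecMcL : GolayPt → ℤ) = -8 := by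
  show sqNorm (pat 3 1 1 (-1)) = 32 ∧ dotInt (oneVec (-3)) (pat 3 1 1 (-1)) = -8
  decide +kernel

theorem dots_hs : sqNorm (vecHS : GolayPt → ℤ) = 48 ∧
    dotInt (vecCo3 : GolayPt → ℤ) (vecHS : GolayPt → ℤ) = -32 := by
  show sqNorm (pat (-2) 0 0 (-2)) = 48 ∧ dotInt (oneVec 5) (pat (-2) 0 0 (-2)) = -32
  decide +kernel

theorem mcl_simple_vec : IsSimpleGroup (pairStab vecCo2 vecMcL) := by
  set u := vecCo2 + vecMcL with hu
  have hun : sqNorm (u : GolayPt → ℤ) = 48 := by
    rw [hu, AddSubgroup.coe_add, sqNorm_add, sqNorm_vecCo2, dots_mcl.1, dots_mcl.2]; norm_num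
  have hadd : ∀ x : GolayPt → ℤ,
      dotInt x (u : GolayPt → ℤ) = dotInt (vecCo2 : GolayPt → ℤ) x + dotInt (vecMcL : GolayPt → ℤ) x := by
    intro x
    rw [hu, AddSubgroup.coe_add, Stab.dot_comm, Stab.dot_add_left]
  have hvu : dotInt (vecCo2 : GolayPt → ℤ) (u : GolayPt → ℤ) = 24 := by
    rw [hadd, Stab.dotInt_self, sqNorm_vecCo2, Stab.dot_comm (vecMcL : GolayPt → ℤ), dots_mcl.2]
    norm_num
  obtain ⟨hcard, htr⟩ := Stab.mcl_transitive hun
    ⟨sqNorm_vecCo2, (Stab.norm_sub_iff hun sqNorm_vecCo2).2 hvu⟩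
  have hiff : ∀ x : leechLattice, InX x ↔ x ∈ Stab.mclSet u vecCo2 := by
    intro x
    constructor
    · rintro ⟨h1, h2, h3⟩
      exact ⟨h1, (Stab.norm_sub_iff hun h1).2 (by rw [hadd, h2, h3]; norm_num), h2⟩
    · rintro ⟨h1, h2, h3⟩
      have h := (Stab.norm_sub_iff hun h1).1 h2
      rw [hadd, h3] at h
      exact ⟨h1, h3, by omega⟩
  refine mcl_simple (card_pair_mcl sqNorm_vecCo2 dots_mcl.1 dots_mcl.2) ?_ ?_
  · rw [← hcard, ← Nat.card_coe_set_eq]
    exact Nat.card_congr (Equiv.subtypeEquivRight hiff)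
  · intro x y hx hy
    obtain ⟨g, hgu, hgv, hgx⟩ := htr x ((hiff x).1 hx) y ((hiff y).1 hy)
    refine ⟨g, ⟨hgv, ?_⟩, hgx⟩
    rw [hu, smul_add', hgv] at hgu
    exact add_left_cancel hgu

/-- Conjugate pairs have isomorphic stabilisers. -/
theorem nonempty_pairStab_equiv {v w : leechLattice} {g : Co0} {v' w' : leechLattice}
    (hv : g • v = v') (hw : g • w = w') : Nonempty (pairStab v w ≃* pairStab v' w') := by
  refine ⟨MulEquiv.trans ((pairStab v w).equivMapOfInjective (MulAut.conj g).toMonoidHom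
    (MulAut.conj g).injective) (MulEquiv.subgroupCongr ?_)⟩
  ext x
  rw [Subgroup.mem_map_equiv, MulAut.conj_symm_apply]
  subst hv hw
  constructor
  · rintro ⟨h1, h2⟩
    have h1' : (g⁻¹ * x * g) • v = v := h1
    have h2' : (g⁻¹ * x * g) • w = w := h2
    rw [mul_smul, mul_smul, inv_smul_eq_iff] at h1' h2'
    exact ⟨h1', h2'⟩
  · rintro ⟨h1, h2⟩
    refine ⟨?_, ?_⟩
    · show (g⁻¹ * x * g) • v = v
      rw [mul_smul, mul_smul, show x • g • v = g • v from h1, inv_smul_smul]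
    · show (g⁻¹ * x * g) • w = w
      rw [mul_smul, mul_smul, show x • g • w = g • w from h2, inv_smul_smul]

theorem isMcL_pairStab {v w : leechLattice} (hv : sqNorm (v : GolayPt → ℤ) = 32)
    (hw : sqNorm (w : GolayPt → ℤ) = 32) (hd : dotInt (v : GolayPt → ℤ) (w : GolayPt → ℤ) = -8) :
    IsMcL (pairStab v w) := by
  refine ⟨?_, card_pair_mcl hv hw hd⟩
  obtain ⟨a, ha⟩ := Orbits.transitive32 v vecCo2 hv sqNorm_vecCo2
  obtain ⟨b, hb, hbw⟩ := Stab.transitive_dot_eight (v := vecCo2) (w := a • w) (w' := vecMcL)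
    sqNorm_vecCo2 ((sqNorm_smul a w).trans hw) dots_mcl.1 (by rw [← ha, dotInt_smul]; exact hd)
    dots_mcl.2
  obtain ⟨e⟩ := nonempty_pairStab_equiv (g := b * a) (v := v) (w := w)
    (by rw [mul_smul, ha, hb]) (by rw [mul_smul, hbw])
  exact (MulEquiv.isSimpleGroup_congr e).2 mcl_simple_vec

theorem isHS_pairStab {v w : leechLattice} (hv : sqNorm (v : GolayPt → ℤ) = 48)
    (hw : sqNorm (w : GolayPt → ℤ) = 48) (hd : dotInt (v : GolayPt → ℤ) (w : GolayPt → ℤ) = -32) :
    IsHS (pairStab v w) := by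
  refine ⟨?_, card_pair_hs hv hw hd⟩
  obtain ⟨a, ha, haw⟩ := Stab.normal_hs hv hw hd
  obtain ⟨b, hb, hbw⟩ := Stab.normal_hs sqNorm_vecCo3 dots_hs.1 dots_hs.2
  obtain ⟨e⟩ := nonempty_pairStab_equiv (g := b⁻¹ * a) (v := v) (w := w) (v' := vecCo3) (w' := vecHS)
    (by rw [mul_smul, ha, ← hb, inv_smul_smul]) (by rw [mul_smul, haw, ← hbw, inv_smul_smul])
  exact (MulEquiv.isSimpleGroup_congr e).2
    (hs_simple (card_pair_hs sqNorm_vecCo3 dots_hs.1 dots_hs.2))

end CfsgLib.Leech
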