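import Cfsg.Agent.Lib.Leech.Simple.Mono
import Cfsg.Agent.Lib.Golay.Simple
import Cfsg.Agent.Lib.Leech.Check

/-! Stabilisers of vectors fixed by the element of order 23: the simple groups Co2 and Co3. -/

set_option autoImplicit false

namespace CfsgLib.Leech

open Cfsg CfsgLib
open scoped Pointwise

/-- The vector `(a, 1^23)`. -/
def oneVec (a : ℤ) : GolayPt → ℤ := fun i => if i = none then a else 1

variable {a : ℤ} {v : leechLattice}

theorem monoEl_fix_oneVec (ha1 : a ≠ 1) (ha2 : a ≠ -1) (ha0 : a ≠ 0) (hv : (v : GolayPt → ℤ) = oneVec a)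
    {τ : Equiv.Perm GolayPt} {hτ : τ ∈ M24} {c : GolayPt → ZMod 2} {hc : c ∈ golayCode} :
    monoEl τ hτ c hc • v = v ↔ τ none = none ∧ c = 0 := by
  constructor
  · intro h
    have h' : ∀ i, monoFun τ c (oneVec a) i = oneVec a i := fun i => by
      rw [← hv, ← coe_monoEl_smul (hτ := hτ) (hc := hc), h]
    have ht : τ none = none := by
      by_contra ht
      have := h' none
      simp only [monoFun, oneVec, if_neg ht, if_true] at this
      split at this <;> omega
    refine ⟨ht, funext fun i => ?_⟩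
    rcases zmod_two_cases (c i) with e | e
    · exact e
    exfalso
    have := h' i
    rcases i with _ | x
    · simp only [monoFun, oneVec, ht, e, if_true] at this; omega
    · have hne : τ (some x) ≠ none := fun hh => by
        have := τ.injective (hh.trans ht.symm); simp at this
      simp [monoFun, oneVec, hne, e] at this
  · rintro ⟨ht, rfl⟩
    refine Subtype.ext (funext fun i => ?_)
    rw [coe_monoEl_smul, hv]
    rcases i with _ | x
    · simp [monoFun, oneVec, ht]
    · have hne : τ (some x) ≠ none := fun hh => by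
        have := τ.injective (hh.trans ht.symm); simp at this
      simp [monoFun, oneVec, hne]

theorem shiftEl_fix_oneVec (hv : (v : GolayPt → ℤ) = oneVec a) :
    shiftEl ∈ MulAction.stabilizer Co0 v := by
  refine MulAction.mem_stabilizer_iff.2 (Subtype.ext (funext fun i => ?_))
  rw [coe_shiftEl_smul, hv]
  rcases i with _ | x <;> simp [oneVec, shiftPerm]

theorem negEl_not_fix {w : leechLattice} (hw : w ≠ 0) : negEl • w ≠ w := by
  rw [negEl_smul]
  intro h
  refine hw (Subtype.ext (funext fun i => ?_))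
  have h1 := congrArg (fun u : leechLattice => (u : GolayPt → ℤ) i) h
  simp only [NegMemClass.coe_neg, Pi.neg_apply] at h1
  simp only [ZeroMemClass.coe_zero, Pi.zero_apply]
  omega

theorem card_centralizer_dvd (hw : v ≠ 0) (hg : shiftEl ∈ MulAction.stabilizer Co0 v) :
    Nat.card (Subgroup.centralizer ({(⟨shiftEl, hg⟩ : MulAction.stabilizer Co0 v)} :
      Set (MulAction.stabilizer Co0 v))) ∣ 23 := by
  set C := Subgroup.centralizer ({(⟨shiftEl, hg⟩ : MulAction.stabilizer Co0 v)} :
    Set (MulAction.stabilizer Co0 v))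
  have hle : C.map (MulAction.stabilizer Co0 v).subtype ≤ Subgroup.zpowers shiftEl := by
    rintro _ ⟨x, hx, rfl⟩
    have hxc : (x : Co0) ∈ Subgroup.centralizer ({shiftEl} : Set Co0) :=
      Subgroup.mem_centralizer_singleton_iff.2
        (congrArg Subtype.val (Subgroup.mem_centralizer_singleton_iff.1 hx))
    obtain ⟨k, hk⟩ := centralizer_shiftEl_le hxc
    have hcomm : Commute negEl shiftEl := (negEl_comm shiftEl).symm
    have hk' : negEl ^ k * shiftEl ^ k = (x : Co0) := by rw [← hcomm.mul_zpow]; exact hk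
    show (x : Co0) ∈ _
    rcases Int.even_or_odd k with ⟨j, rfl⟩ | ⟨j, rfl⟩
    · refine ⟨j + j, ?_⟩
      rw [← hk', zpow_add negEl, ← mul_zpow_self, sq_negEl_aux, one_zpow, one_mul]
    · exfalso
      have hneg : negEl ∈ MulAction.stabilizer Co0 v := by
        have h1 : (x : Co0) * (shiftEl ^ (2 * j + 1))⁻¹ ∈ MulAction.stabilizer Co0 v :=
          mul_mem x.2 (inv_mem (zpow_mem hg _))
        rw [← hk', mul_inv_cancel_right, zpow_add_one, zpow_mul,
          show negEl ^ (2 : ℤ) = 1 by rw [zpow_two, sq_negEl_aux], one_zpow, one_mul] at h1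
        exact h1
      exact negEl_not_fix hw hneg
  have h := Subgroup.card_dvd_of_le hle
  rwa [Subgroup.card_map_of_injective (MulAction.stabilizer Co0 v).subtype_injective,
    Nat.card_zpowers, orderOf_shiftEl] at h
where
  mul_zpow_self {x : Co0} {j : ℤ} : (x * x) ^ j = x ^ j * x ^ j := (Commute.refl x).mul_zpow j
  sq_negEl_aux : negEl * negEl = 1 := by
    refine Subtype.ext (Equiv.ext fun u => ?_)
    show negEl • (negEl • u) = u
    rw [negEl_smul, negEl_smul, neg_neg]

/-- The permutations fixing the extra point, inside the stabiliser. -/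
def embFix (ha1 : a ≠ 1) (ha2 : a ≠ -1) (ha0 : a ≠ 0) (hv : (v : GolayPt → ℤ) = oneVec a) :
    Golay.fixPts M24 [none] →* MulAction.stabilizer Co0 v where
  toFun σ := ⟨monoEl (σ : Equiv.Perm GolayPt)⁻¹ (inv_mem (Golay.mem_fixPts.1 σ.2).1) 0 (zero_mem _),
    (monoEl_fix_oneVec ha1 ha2 ha0 hv).2 ⟨by
      rw [Equiv.Perm.inv_eq_iff_eq]
      exact ((Golay.mem_fixPts.1 σ.2).2 none (List.mem_singleton_self _)).symm, rfl⟩⟩
  map_one' := by
    refine Subtype.ext (Eq.trans ?_ monoEl_one)
    show monoEl ((1 : Golay.fixPts M24 [none]) : Equiv.Perm GolayPt)⁻¹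
      (inv_mem (Golay.mem_fixPts.1 (1 : Golay.fixPts M24 [none]).2).1) 0 (zero_mem _) = _
    exact monoEl_congr inv_one rfl
  map_mul' σ τ := by
    refine Subtype.ext ?_
    have e := (monoEl_mul (inv_mem (Golay.mem_fixPts.1 σ.2).1) (inv_mem (Golay.mem_fixPts.1 τ.2).1)
      (zero_mem golayCode) (zero_mem golayCode)).symm
    refine Eq.trans ?_ e
    show monoEl ((σ * τ : Golay.fixPts M24 [none]) : Equiv.Perm GolayPt)⁻¹
      (inv_mem (Golay.mem_fixPts.1 (σ * τ).2).1) 0 (zero_mem _) = _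
    exact monoEl_congr (mul_inv_rev _ _) (by funext i; simp)

/-- A normal subgroup is everything or of order prime to 23. -/
theorem eq_top_or_not_dvd (ha1 : a ≠ 1) (ha2 : a ≠ -1) (ha0 : a ≠ 0)
    (hv : (v : GolayPt → ℤ) = oneVec a) (h23 : ¬ 23 ^ 2 ∣ Nat.card (MulAction.stabilizer Co0 v))
    (K : Subgroup (MulAction.stabilizer Co0 v)) [K.Normal] : K = ⊤ ∨ ¬ 23 ∣ Nat.card K := by
  by_cases hK : 23 ∣ Nat.card K
  swap; exact Or.inr hK
  left
  have hg := shiftEl_fix_oneVec hv
  refine Simple.eq_top_of_dvd_card (g := (⟨shiftEl, hg⟩ : MulAction.stabilizer Co0 v))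
    (by rw [Subgroup.orderOf_mk, orderOf_shiftEl]) h23 hK
    (N := monoSub.subgroupOf (MulAction.stabilizer Co0 v)) (fun x hx => ?_) (fun hgK => ?_)
  · refine Subgroup.mem_subgroupOf.2 (normalizer_shiftEl_le ?_)
    have h := Subgroup.le_normalizer_map (MulAction.stabilizer Co0 v).subtype
      (Subgroup.mem_map_of_mem (MulAction.stabilizer Co0 v).subtype hx)
    rwa [MonoidHom.map_zpowers] at h
  have hsimp := Golay.isSimple_fix1
  have hsurj : ∀ x ∈ monoSub.subgroupOf (MulAction.stabilizer Co0 v), ∃ σ, embFix ha1 ha2 ha0 hv σ = x := by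
    intro x hx
    obtain ⟨τ, hτ, c, hc, hx'⟩ := exists_mono_of_stdStab (Subgroup.mem_subgroupOf.1 hx)
    have hfix : monoEl τ hτ c hc • v = v := hx' ▸ x.2
    obtain ⟨ht, rfl⟩ := (monoEl_fix_oneVec ha1 ha2 ha0 hv).1 hfix
    refine ⟨⟨τ⁻¹, Golay.mem_fixPts.2 ⟨inv_mem hτ, ?_⟩⟩, Subtype.ext ?_⟩
    · intro p hp
      rw [List.mem_singleton] at hp
      subst hp
      rw [Equiv.Perm.inv_eq_iff_eq]; exact ht.symm
    · refine Eq.trans ?_ hx'.symm
      simp only [embFix, MonoidHom.coe_mk, OneHom.coe_mk]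
      exact monoEl_congr (inv_inv τ) rfl
  obtain ⟨σ, hσ⟩ := hsurj ⟨shiftEl, hg⟩ (Subgroup.mem_subgroupOf.2 (monoEl_mem_monoSub shiftPerm_mem (zero_mem _)))
  have hne : σ ≠ 1 := by
    rintro rfl
    rw [map_one] at hσ
    exact shiftEl_ne_one (congrArg Subtype.val hσ).symm
  have htop : K.comap (embFix ha1 ha2 ha0 hv) = ⊤ := by
    refine (hsimp.eq_bot_or_eq_top_of_normal _ inferInstance).resolve_left fun hbot => hne ?_
    rw [← Subgroup.mem_bot, ← hbot, Subgroup.mem_comap, hσ]
    exact hgK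
  intro x hx
  obtain ⟨τ, rfl⟩ := hsurj x hx
  have : τ ∈ K.comap (embFix ha1 ha2 ha0 hv) := htop ▸ Subgroup.mem_top τ
  exact this

/-- A normal subgroup of order prime to 23 is a 2-group of order congruent to 1. -/
theorem two_pow_of_not_dvd (hw : v ≠ 0) (hg : shiftEl ∈ MulAction.stabilizer Co0 v)
    (K : Subgroup (MulAction.stabilizer Co0 v)) [K.Normal] (hK : ¬ 23 ∣ Nat.card K)
    (L : List (ℕ × ℕ))
    (hfac : ∀ p, p.Prime → p ∣ Nat.card (MulAction.stabilizer Co0 v) →
      p = 2 ∨ p = 23 ∨ ∃ e, (p, e) ∈ L)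
    (hchk : ∀ e ∈ L, ¬ e.1 ^ (e.2 + 1) ∣ Nat.card (MulAction.stabilizer Co0 v) ∧
      (∀ i < e.2, (e.1 ^ (i + 1) - 1) % 23 ≠ 0) ∧ ¬ e.1 ∣ 23) :
    IsPGroup 2 K ∧ ∃ n, Nat.card K = 2 ^ n ∧ 2 ^ n % 23 = 1 := by
  have hord : orderOf (⟨shiftEl, hg⟩ : MulAction.stabilizer Co0 v) = 23 := by
    rw [Subgroup.orderOf_mk, orderOf_shiftEl]
  have h2 := Simple.isPGroup_two hord hK L hfac fun e he =>
    ⟨(hchk e he).1, (hchk e he).2.1, fun h => (hchk e he).2.2 (h.trans (card_centralizer_dvd hw hg))⟩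
  refine ⟨h2, ?_⟩
  obtain ⟨n, hn⟩ := IsPGroup.iff_card.1 h2
  refine ⟨n, hn, ?_⟩
  have hmod := Simple.card_modEq_centralizer hord (K := K)
    (by rw [Subgroup.normalizer_eq_top]; exact Subgroup.mem_top _)
  have hone : Nat.card ↥(K ⊓ Subgroup.centralizer ({(⟨shiftEl, hg⟩ : MulAction.stabilizer Co0 v)} :
      Set (MulAction.stabilizer Co0 v))) = 1 := by
    refine Nat.eq_one_of_dvd_coprimes ?_ (hn ▸ Subgroup.card_dvd_of_le inf_le_left)
      ((Subgroup.card_dvd_of_le inf_le_right).trans (card_centralizer_dvd hw hg))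
    exact Nat.Coprime.pow_left n (by norm_num)
  rw [hone, hn] at hmod
  exact hmod

theorem oneVec_ne_zero (hv : (v : GolayPt → ℤ) = oneVec a) : v ≠ 0 := fun h => by
  have h1 := congrFun hv (some 0)
  rw [h] at h1
  simp [oneVec] at h1

/-- The representative of the vectors of norm 32. -/
def vecCo2 : leechLattice := ⟨oneVec (-3), mem_of_leechB (by decide +kernel)⟩

/-- The representative of the vectors of norm 48. -/
def vecCo3 : leechLattice := ⟨oneVec 5, mem_of_leechB (by decide +kernel)⟩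

theorem sqNorm_vecCo2 : sqNorm (vecCo2 : GolayPt → ℤ) = 32 := by
  show sqNorm (oneVec (-3)) = 32
  decide +kernel

theorem sqNorm_vecCo3 : sqNorm (vecCo3 : GolayPt → ℤ) = 48 := by
  show sqNorm (oneVec 5) = 48
  decide +kernel

theorem card_stabilizer32 {w : leechLattice} (hw : sqNorm (w : GolayPt → ℤ) = 32) :
    Nat.card (MulAction.stabilizer Co0 w) = 42305421312000 := by
  have h := Subgroup.card_mul_index (MulAction.stabilizer Co0 w)
  rw [index_stabilizer32 hw, card_Co0] at h
  omega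

theorem card_stabilizer48 {w : leechLattice} (hw : sqNorm (w : GolayPt → ℤ) = 48) :
    Nat.card (MulAction.stabilizer Co0 w) = 495766656000 := by
  have h := Subgroup.card_mul_index (MulAction.stabilizer Co0 w)
  rw [index_stabilizer48 hw, card_Co0] at h
  omega

end CfsgLib.Leech
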