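import Cfsg.Agent.Lib.Leech.Simple.Stab23
import Cfsg.Agent.Lib.Leech.Simple.Co1

/-! Simplicity of Co3 and Co2. -/

set_option autoImplicit false

namespace CfsgLib.Leech

open Cfsg CfsgLib
open scoped Pointwise

theorem facts_of_factor {N : ℕ} (L : List (ℕ × ℕ)) (hN : N = ((L.map fun e => e.1 ^ e.2).prod))
    (hL : ∀ e ∈ L, e.1.Prime) {p : ℕ} (hp : p.Prime) (h : p ∣ N) : ∃ v, (p, v) ∈ L := by
  obtain ⟨x, hx, hpx⟩ := (Prime.dvd_prod_iff hp.prime).1 (hN ▸ h)
  obtain ⟨e, he, rfl⟩ := List.mem_map.1 hx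
  exact ⟨e.2, by rw [(Nat.prime_dvd_prime_iff_eq hp (hL e he)).1 (hp.dvd_of_dvd_pow hpx)]; exact he⟩

theorem pow_not_dvd {G : Type*} [Group G] [Finite G] {K : Subgroup G} {m N n : ℕ}
    (hn : Nat.card K = 2 ^ n) (hN : Nat.card G = N) (hm : ¬ 2 ^ (m + 1) ∣ N) : n ≤ m := by
  by_contra h
  exact hm (dvd_trans (pow_dvd_pow 2 (by omega)) (hn ▸ hN ▸ Subgroup.card_subgroup_dvd_card K))

theorem card_co3_factor : (495766656000 : ℕ) =
    (([(2, 10), (3, 7), (5, 3), (7, 1), (11, 1), (23, 1)] : List (ℕ × ℕ)).map fun e => e.1 ^ e.2).prod := by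
  decide +kernel

theorem card_co2_factor : (42305421312000 : ℕ) =
    (([(2, 18), (3, 6), (5, 3), (7, 1), (11, 1), (23, 1)] : List (ℕ × ℕ)).map fun e => e.1 ^ e.2).prod := by
  decide +kernel

theorem co3_simple_vec : IsSimpleGroup (MulAction.stabilizer Co0 vecCo3) := by
  have hN := card_stabilizer48 sqNorm_vecCo3
  have : Nontrivial (MulAction.stabilizer Co0 vecCo3) := Finite.one_lt_card_iff_nontrivial.1 (by omega)
  refine { eq_bot_or_eq_top_of_normal := fun K hK => ?_ }
  rcases eq_top_or_not_dvd (a := 5) (v := vecCo3) (by norm_num) (by norm_num) (by norm_num) rfl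
    (by rw [hN]; norm_num) K with h | h
  · exact Or.inr h
  left
  obtain ⟨-, n, hn, hmod⟩ := two_pow_of_not_dvd (oneVec_ne_zero (a := 5) rfl)
    (shiftEl_fix_oneVec (a := 5) rfl) K h [(3, 7), (5, 3), (7, 1), (11, 1)]
    (fun p hp hd => by
      obtain ⟨v, hv⟩ := facts_of_factor _ card_co3_factor (by
        intro e he; simp only [List.mem_cons, List.not_mem_nil, or_false] at he
        rcases he with rfl | rfl | rfl | rfl | rfl | rfl <;> norm_num) hp (hN ▸ hd)
      simp only [List.mem_cons, List.not_mem_nil, or_false, Prod.mk.injEq] at hv ⊢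
      rcases hv with h | h | h | h | h | h <;> simp [h.1])
    (by
      intro e he
      simp only [List.mem_cons, List.not_mem_nil, or_false] at he
      rcases he with rfl | rfl | rfl | rfl <;>
        refine ⟨by rw [hN]; norm_num, fun i hi => ?_, by norm_num⟩ <;>
        (dsimp only at hi ⊢; interval_cases i <;> norm_num))
  have hle := pow_not_dvd (m := 10) hn hN (by norm_num)
  have hn0 : n = 0 := by interval_cases n <;> simp_all
  rw [hn0, pow_zero] at hn
  exact Subgroup.eq_bot_of_card_eq _ hn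

theorem isCo3_stabilizer {v : leechLattice} (hv : sqNorm (v : GolayPt → ℤ) = 48) :
    IsCo3 (MulAction.stabilizer Co0 v) := by
  refine ⟨?_, card_stabilizer48 hv⟩
  obtain ⟨g, hg⟩ := Orbits.transitive48 v vecCo3 hv sqNorm_vecCo3
  exact (MulEquiv.isSimpleGroup_congr (MulAction.stabilizerEquivStabilizer (g := g) hg.symm)).2
    co3_simple_vec

/-- The pair of points used for the second representative of norm 32. -/
def pairSet : Finset GolayPt := {none, some 0}

/-- The representative of norm 32 supported on a pair. -/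
def vecPair : leechLattice :=
  ⟨fun i => if i = none ∨ i = some 0 then 4 else 0, mem_of_leechB (by decide +kernel)⟩

theorem sqNorm_vecPair : sqNorm (vecPair : GolayPt → ℤ) = 32 := by
  show sqNorm (fun i => if i = none ∨ i = some 0 then 4 else 0) = 32
  decide +kernel

theorem mem_pairSet {i : GolayPt} : i ∈ pairSet ↔ i = none ∨ i = some 0 := by simp [pairSet]

theorem monoEl_fix_pair {τ : Equiv.Perm GolayPt} {hτ : τ ∈ M24} {c : GolayPt → ZMod 2}
    {hc : c ∈ golayCode} :
    monoEl τ hτ c hc • vecPair = vecPair ↔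
      τ • pairSet = pairSet ∧ c none = 0 ∧ c (some 0) = 0 := by
  have key : monoEl τ hτ c hc • vecPair = vecPair ↔
      (∀ i, τ i ∈ pairSet ↔ i ∈ pairSet) ∧ ∀ i ∈ pairSet, c i = 0 := by
    constructor
    · intro h
      have h' : ∀ i, monoFun τ c (fun i => if i = none ∨ i = some 0 then 4 else 0) i =
          (if i = none ∨ i = some 0 then 4 else 0 : ℤ) := fun i => by
        have := congrArg (fun w : leechLattice => (w : GolayPt → ℤ) i) h
        simpa [coe_monoEl_smul, vecPair] using this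
      refine ⟨fun i => ?_, fun i hi => ?_⟩
      · have := h' i
        simp only [monoFun, ← mem_pairSet] at this
        by_cases h1 : τ i ∈ pairSet <;> by_cases h2 : i ∈ pairSet <;>
          simp [h1, h2] at this ⊢ <;> split at this <;> omega
      · have := h' i
        rcases zmod_two_cases (c i) with e | e
        · exact e
        · exfalso
          simp only [monoFun, ← mem_pairSet, e, if_true, hi] at this
          split at this <;> omega
    · rintro ⟨h1, h2⟩
      refine Subtype.ext (funext fun i => ?_)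
      rw [coe_monoEl_smul]
      show monoFun τ c (fun i => if i = none ∨ i = some 0 then 4 else 0) i =
          (if i = none ∨ i = some 0 then 4 else 0 : ℤ)
      simp only [monoFun, ← mem_pairSet, h1]
      by_cases hi : i ∈ pairSet
      · simp [hi, h2 i hi]
      · simp [hi]
  rw [key]
  refine and_congr ⟨fun h => ?_, fun h i => ?_⟩ (by simp [mem_pairSet, forall_eq_or_imp])
  · ext i
    rw [← Finset.inv_smul_mem_iff, ← h, Equiv.Perm.smul_def]
    simp
  · conv_lhs => rw [← h]
    rw [← Equiv.Perm.smul_def, Finset.smul_mem_smul_finset_iff]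

/-- The coordinates at the pair. -/
def codePair : golayCode →ₗ[ZMod 2] ZMod 2 × ZMod 2 where
  toFun c := (c.1 none, c.1 (some 0))
  map_add' _ _ := rfl
  map_smul' _ _ := rfl

theorem card_ker_codePair : Nat.card (LinearMap.ker codePair) = 2 ^ 10 := by
  have hs : Function.Surjective codePair := by
    obtain ⟨c, hc, h1, h2⟩ := exists_code_separating (i := none) (j := some 0) (by simp)
    intro x
    obtain ⟨x, y⟩ := x
    refine ⟨x • ⟨1, Golay.one_mem_golay⟩ + (y - x) • ⟨c, hc⟩, ?_⟩
    simp [codePair, h1, h2]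
  have h := Submodule.card_eq_card_quotient_mul_card (LinearMap.ker codePair)
  rw [Nat.card_congr (codePair.quotKerEquivOfSurjective hs).toEquiv, Nat.card_prod, Nat.card_zmod,
    Golay.card_golay] at h
  omega

theorem hc24 : (Fintype.card GolayPt).choose 2 = 276 := by decide +kernel

theorem card_stab_pairSet : Nat.card (MulAction.stabilizer M24 pairSet) = 887040 := by
  have h := Subgroup.card_mul_index (MulAction.stabilizer M24 pairSet)
  have horb : MulAction.orbit M24 pairSet =
      ((Finset.univ : Finset GolayPt).powersetCard 2 : Set (Finset GolayPt)) := by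
    ext t
    simp only [Finset.mem_coe, Finset.mem_powersetCard, Finset.subset_univ, true_and]
    constructor
    · rintro ⟨g, rfl⟩
      show ((g : Equiv.Perm GolayPt) • pairSet).card = 2
      rw [Finset.card_smul_finset]; rfl
    · intro ht
      obtain ⟨x, y, hxy, rfl⟩ := Finset.card_eq_two.1 ht
      obtain ⟨g, hg, hm⟩ := Golay.exists_map_M24 (xs := [none, some 0]) (ys := [x, y]) (by simp)
        (by simp [hxy]) rfl (by simp)
      simp only [List.map_cons, List.map_nil, List.cons.injEq, and_true] at hm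
      refine ⟨⟨g, hg⟩, ?_⟩
      show g • pairSet = _
      rw [pairSet, Finset.smul_finset_insert, Finset.smul_finset_singleton, Equiv.Perm.smul_def,
        Equiv.Perm.smul_def, hm.1, hm.2]
  have hi : (MulAction.stabilizer M24 pairSet).index = 276 :=
    ((MulAction.index_stabilizer _ _).trans (congrArg Set.ncard horb)).trans
      ((Set.ncard_coe_finset _).trans ((Finset.card_powersetCard 2 _).trans hc24))
  rw [hi, Golay.card_M24] at h
  exact Nat.eq_of_mul_eq_mul_right (by norm_num) (h.trans (by norm_num))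

theorem monoEl_mem_stab_pair {τ : Equiv.Perm GolayPt} {hτ : τ ∈ M24} {c : GolayPt → ZMod 2}
    {hc : c ∈ golayCode} (h1 : τ • pairSet = pairSet) (h2 : c none = 0) (h3 : c (some 0) = 0) :
    monoEl τ hτ c hc ∈ MulAction.stabilizer Co0 vecPair :=
  monoEl_fix_pair.2 ⟨h1, h2, h3⟩

theorem card_monoSub_pair :
    Nat.card (monoSub.subgroupOf (MulAction.stabilizer Co0 vecPair)) = 887040 * 2 ^ 10 := by
  have e : Nat.card (MulAction.stabilizer M24 pairSet × LinearMap.ker codePair) =
      Nat.card (monoSub.subgroupOf (MulAction.stabilizer Co0 vecPair)) := by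
    refine Nat.card_congr (Equiv.ofBijective (fun p : MulAction.stabilizer M24 pairSet ×
        LinearMap.ker codePair => (⟨⟨monoMap (p.1.1, p.2.1), monoEl_mem_stab_pair p.1.2
          (congrArg Prod.fst p.2.2) (congrArg Prod.snd p.2.2)⟩,
        Subgroup.mem_subgroupOf.2 (monoEl_mem_monoSub p.1.1.2 p.2.1.2)⟩ :
        monoSub.subgroupOf (MulAction.stabilizer Co0 vecPair))) ⟨fun p q h => ?_, fun x => ?_⟩)
    · have h' := monoMap_injective (congrArg (fun z : monoSub.subgroupOf
        (MulAction.stabilizer Co0 vecPair) => ((z : MulAction.stabilizer Co0 vecPair) : Co0)) h)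
      exact Prod.ext (Subtype.ext (congrArg Prod.fst h')) (Subtype.ext (congrArg Prod.snd h'))
    · obtain ⟨τ, hτ, c, hc, hx⟩ := exists_mono_of_stdStab (Subgroup.mem_subgroupOf.1 x.2)
      have hfix : monoEl τ hτ c hc • vecPair = vecPair := hx ▸ x.1.2
      obtain ⟨h1, h2, h3⟩ := monoEl_fix_pair.1 hfix
      exact ⟨(⟨⟨τ, hτ⟩, h1⟩, ⟨⟨c, hc⟩, Prod.ext h2 h3⟩), Subtype.ext (Subtype.ext hx.symm)⟩
  rw [← e, Nat.card_prod, card_stab_pairSet, card_ker_codePair]

theorem monoEl_pow_exists {τ : Equiv.Perm GolayPt} (hτ : τ ∈ M24) {c : GolayPt → ZMod 2}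
    (hc : c ∈ golayCode) : ∀ m : ℕ, ∃ d, ∃ hd : d ∈ golayCode,
      (monoEl τ hτ c hc) ^ m = monoEl (τ ^ m) (pow_mem hτ m) d hd := by
  intro m
  induction m with
  | zero => exact ⟨0, zero_mem _, monoEl_one.symm⟩
  | succ m ih =>
    obtain ⟨d, hd, e⟩ := ih
    refine ⟨_, golayCode.add_mem hd (mem_supports_comp (pow_mem hτ m) hc), ?_⟩
    rw [pow_succ, e, monoEl_mul]
    exact monoEl_congr (pow_succ' _ _).symm rfl

theorem pow_eq_one_of_monoEl {τ : Equiv.Perm GolayPt} {hτ : τ ∈ M24} {c : GolayPt → ZMod 2}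
    {hc : c ∈ golayCode} {m : ℕ} (h : (monoEl τ hτ c hc) ^ m = 1) : τ ^ m = 1 := by
  obtain ⟨d, hd, e⟩ := monoEl_pow_exists hτ hc m
  rw [e, ← monoEl_one] at h
  have h' := monoMap_injective
    (a₁ := (⟨τ ^ m, pow_mem hτ m⟩, ⟨d, hd⟩)) (a₂ := (⟨1, one_mem _⟩, ⟨0, zero_mem _⟩)) h
  exact congrArg (fun p : M24 × golayCode => (p.1 : Equiv.Perm GolayPt)) h'

theorem pair_indicator_weight :
    hammingNorm (fun i : GolayPt => if i = none ∨ i = some 0 then (1 : ZMod 2) else 0) = 2 := by
  decide +kernel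

/-- No permutation of the code swaps the pair and commutes with its pointwise stabiliser. -/
theorem no_swap {τ : Equiv.Perm GolayPt} (hτ : τ ∈ M24) (h0 : τ none = some 0) (h1 : τ (some 0) = none)
    (hcomm : ∀ h ∈ Golay.fixPts M24 [some 0, none], h * τ = τ * h) : False := by
  have hfix : ∀ r : GolayPt, r ≠ none → r ≠ some 0 → τ r = r := by
    intro r hr hr'
    by_contra hne
    have hn : τ r ≠ none := fun e => hr' (τ.injective (e.trans h1.symm))
    have hn' : τ r ≠ some 0 := fun e => hr (τ.injective (e.trans h0.symm))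
    obtain ⟨s, hs1, hs2, hs3, hs4⟩ : ∃ s : GolayPt, s ≠ none ∧ s ≠ some 0 ∧ s ≠ r ∧ s ≠ τ r := by
      obtain ⟨s, -, hs⟩ := Finset.exists_mem_notMem_of_card_lt_card (t := Finset.univ)
        (s := ({none, some 0, r, τ r} : Finset GolayPt))
        ((Finset.card_le_four).trans_lt (by rw [Finset.card_univ]; decide +kernel))
      simp only [Finset.mem_insert, Finset.mem_singleton, not_or] at hs
      exact ⟨s, hs.1, hs.2.1, hs.2.2.1, hs.2.2.2⟩
    obtain ⟨g, hg, hm⟩ := Golay.exists_map_M24 (xs := [none, some 0, r, τ r]) (ys := [none, some 0, r, s])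
      (by simp [Ne.symm hr, Ne.symm hr', Ne.symm hn, Ne.symm hn', Ne.symm hne])
      (by simp [Ne.symm hr, Ne.symm hr', Ne.symm hs1, Ne.symm hs2, Ne.symm hs3]) rfl (by simp)
    simp only [List.map_cons, List.map_nil, List.cons.injEq, and_true] at hm
    have hgf : g ∈ Golay.fixPts M24 [some 0, none] := Golay.mem_fixPts.2 ⟨hg, by
      simp [hm.1, hm.2.1]⟩
    have := congrArg (fun σ : Equiv.Perm GolayPt => σ r) (hcomm g hgf)
    simp only [Equiv.Perm.mul_apply, hm.2.2.1, hm.2.2.2] at this
    exact hs4 this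
  obtain ⟨w, hw, hw0, hw1⟩ := exists_code_separating (i := none) (j := some 0) (by simp)
  have hmem := golayCode.add_mem hw (mem_supports_comp hτ hw)
  have e : w + w ∘ τ = fun i : GolayPt => if i = none ∨ i = some 0 then (1 : ZMod 2) else 0 := by
    funext i
    by_cases hi : i = none
    · subst hi; simp [h0, hw0, hw1]
    by_cases hi' : i = some 0
    · subst hi'; simp [h1, hw0, hw1]
    simp [hfix i hi hi', hi, hi', CharTwo.add_self_eq_zero]
  have hwt := Golay.weight_cases (e ▸ hmem)
  rw [pair_indicator_weight] at hwt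
  omega

theorem pairSet_cases {τ : Equiv.Perm GolayPt} (h : τ • pairSet = pairSet) :
    τ ∈ MulAction.stabilizer (Equiv.Perm GolayPt) pairSet ∧
      ((τ (some 0) = some 0 ∧ τ none = none) ∨ (τ none = some 0 ∧ τ (some 0) = none)) := by
  refine ⟨h, ?_⟩
  have m1 : τ none ∈ pairSet := by
    rw [← h]; exact Finset.smul_mem_smul_finset (mem_pairSet.2 (Or.inl rfl))
  have m2 : τ (some 0) ∈ pairSet := by
    rw [← h]; exact Finset.smul_mem_smul_finset (mem_pairSet.2 (Or.inr rfl))
  rw [mem_pairSet] at m1 m2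
  rcases m1 with e1 | e1 <;> rcases m2 with e2 | e2
  · have := τ.injective (e1.trans e2.symm); simp at this
  · exact Or.inl ⟨e2, e1⟩
  · exact Or.inr ⟨e1, e2⟩
  · have := τ.injective (e1.trans e2.symm); simp at this

/-- A normal 2-subgroup of the stabiliser of the pair vector is small. -/
theorem card_le_of_pGroup (K : Subgroup (MulAction.stabilizer Co0 vecPair)) [K.Normal]
    (hK : IsPGroup 2 K) : Nat.card K ≤ 2 ^ 10 := by
  have hle : K ≤ monoSub.subgroupOf (MulAction.stabilizer Co0 vecPair) := by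
    refine Simple.le_of_odd_index hK ?_
    have h := Subgroup.card_mul_index (monoSub.subgroupOf (MulAction.stabilizer Co0 vecPair))
    rw [card_monoSub_pair, card_stabilizer32 sqNorm_vecPair] at h
    omega
  have hcl : ∀ {τ : Equiv.Perm GolayPt} {hτ : τ ∈ M24} {c : GolayPt → ZMod 2} {hc : c ∈ golayCode},
      monoEl τ hτ c hc ∈ K.map (MulAction.stabilizer Co0 vecPair).subtype →
      ∀ {g : Equiv.Perm GolayPt} (hg : g ∈ M24), g • pairSet = pairSet →
      ∃ d, ∃ hd : d ∈ golayCode, monoEl (g * τ * g⁻¹) (mul_mem (mul_mem hg hτ) (inv_mem hg)) d hd ∈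
        K.map (MulAction.stabilizer Co0 vecPair).subtype := by
    intro τ hτ c hc hk g hg hgp
    obtain ⟨k, hk, hkeq⟩ := hk
    have hmem : monoEl g⁻¹ (inv_mem hg) 0 (zero_mem _) ∈ MulAction.stabilizer Co0 vecPair :=
      monoEl_mem_stab_pair (inv_smul_eq_iff.2 hgp.symm) rfl rfl
    have h := Subgroup.mem_map_of_mem (MulAction.stabilizer Co0 vecPair).subtype
      (Subgroup.Normal.conj_mem inferInstance _ hk ⟨_, hmem⟩)
    have h' : monoEl g⁻¹ (inv_mem hg) 0 (zero_mem _) * monoEl τ hτ c hc *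
        (monoEl g⁻¹ (inv_mem hg) 0 (zero_mem _))⁻¹ ∈
        K.map (MulAction.stabilizer Co0 vecPair).subtype := by
      rw [← hkeq]; exact h
    rw [monoEl_inv, monoEl_mul, monoEl_mul] at h'
    refine ⟨_, ?_, monoEl_mem_congr h' ?_ rfl⟩
    · exact golayCode.add_mem (golayCode.add_mem (zero_mem _) (mem_supports_comp (inv_mem hg) hc))
        (mem_supports_comp (mul_mem hτ (inv_mem hg)) (mem_supports_comp (inv_mem (inv_mem hg)) (zero_mem _)))
    · simp [mul_assoc]
  let P := permPart (K.map (MulAction.stabilizer Co0 vecPair).subtype)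
  let P2 : Subgroup (Golay.fixPts M24 [some 0, none]) :=
    P.comap (Subgroup.inclusion (Golay.fixPts_le M24 [some 0, none]))
  have hpair : ∀ g ∈ Golay.fixPts M24 [some 0, none], g • pairSet = pairSet := by
    intro g hg
    have h := (Golay.mem_fixPts.1 hg).2
    rw [pairSet, Finset.smul_finset_insert, Finset.smul_finset_singleton, Equiv.Perm.smul_def,
      Equiv.Perm.smul_def, h none (by simp), h (some 0) (by simp)]
  have hP2n : P2.Normal := ⟨fun n hn g => by
    obtain ⟨c, hc, hck⟩ := hn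
    exact hcl hck (Golay.fixPts_le _ _ g.2) (hpair g g.2)⟩
  have hP2 : P2 = ⊥ := by
    refine (Golay.isSimple_fix2.eq_bot_or_eq_top_of_normal _ hP2n).resolve_right fun htop => ?_
    have : Fact (Nat.Prime 11) := ⟨by norm_num⟩
    obtain ⟨σ, hσ⟩ := exists_prime_orderOf_dvd_card' (G := Golay.fixPts M24 [some 0, none]) 11
      (by rw [Golay.card_fix2]; norm_num)
    obtain ⟨c, hc, k, hk, hkeq⟩ : σ ∈ P2 := htop ▸ Subgroup.mem_top _
    obtain ⟨n, hn⟩ := hK ⟨k, hk⟩
    have hn' : k ^ 2 ^ n = 1 := congrArg Subtype.val hn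
    have hn'' := congrArg (MulAction.stabilizer Co0 vecPair).subtype hn'
    rw [map_pow, map_one, hkeq] at hn''
    have h1 : σ ^ 2 ^ n = 1 := Subtype.ext (pow_eq_one_of_monoEl hn'')
    have h2 := orderOf_dvd_of_pow_eq_one h1
    rw [hσ] at h2
    exact absurd ((Fact.out : Nat.Prime 11).dvd_of_dvd_pow h2) (by norm_num)
  have hdiag : ∀ k ∈ K, ∃ c : LinearMap.ker codePair,
      (k : Co0) = monoEl 1 (one_mem _) (c.1 : GolayPt → ZMod 2) c.1.2 := by
    intro k hk
    obtain ⟨τ, hτ, c, hc, hkeq⟩ := exists_mono_of_stdStab (Subgroup.mem_subgroupOf.1 (hle hk))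
    have hfix : monoEl τ hτ c hc • vecPair = vecPair := hkeq ▸ k.2
    obtain ⟨h1, h2, h3⟩ := monoEl_fix_pair.1 hfix
    have hkm : monoEl τ hτ c hc ∈ K.map (MulAction.stabilizer Co0 vecPair).subtype := ⟨k, hk, hkeq⟩
    have htriv : ∀ σ ∈ Golay.fixPts M24 [some 0, none], (∃ d, ∃ hd : d ∈ golayCode, ∃ hσ : σ ∈ M24,
        monoEl σ hσ d hd ∈ K.map (MulAction.stabilizer Co0 vecPair).subtype) → σ = 1 := by
      rintro σ hσ ⟨d, hd, hσ', hdk⟩
      have : (⟨σ, hσ⟩ : Golay.fixPts M24 [some 0, none]) ∈ P2 := ⟨d, hd, hdk⟩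
      rw [hP2, Subgroup.mem_bot] at this
      exact congrArg Subtype.val this
    rcases (pairSet_cases h1).2 with ⟨e1, e2⟩ | ⟨e1, e2⟩
    · obtain rfl : τ = 1 := htriv τ (Golay.mem_fixPts.2 ⟨hτ, by simp [e1, e2]⟩) ⟨c, hc, hτ, hkm⟩
      exact ⟨⟨⟨c, hc⟩, Prod.ext h2 h3⟩, hkeq⟩
    · exfalso
      refine no_swap hτ e1 e2 fun g hg => ?_
      obtain ⟨d, hd, hdk⟩ := hcl hkm (Golay.fixPts_le _ _ hg) (hpair g hg)
      have h := (K.map (MulAction.stabilizer Co0 vecPair).subtype).mul_mem
        ((K.map (MulAction.stabilizer Co0 vecPair).subtype).inv_mem hkm) hdk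
      rw [monoEl_inv, monoEl_mul] at h
      have hgM := Golay.fixPts_le _ _ hg
      have hg1 := (Golay.mem_fixPts.1 hg).2 none (by simp)
      have hg2 := (Golay.mem_fixPts.1 hg).2 (some 0) (by simp)
      have hg1' : g⁻¹ none = none := Equiv.Perm.inv_eq_iff_eq.2 hg1.symm
      have hg2' : g⁻¹ (some 0) = some 0 := Equiv.Perm.inv_eq_iff_eq.2 hg2.symm
      have hi1 : τ⁻¹ none = some 0 := Equiv.Perm.inv_eq_iff_eq.2 e2.symm
      have hi2 : τ⁻¹ (some 0) = none := Equiv.Perm.inv_eq_iff_eq.2 e1.symm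
      have heq := htriv (g * τ * g⁻¹ * τ⁻¹) (Golay.mem_fixPts.2
        ⟨mul_mem (mul_mem (mul_mem hgM hτ) (inv_mem hgM)) (inv_mem hτ), fun x hx => by
          simp only [List.mem_cons, List.not_mem_nil, or_false] at hx
          rcases hx with rfl | rfl <;>
            simp only [Equiv.Perm.mul_apply, hi1, hi2, hg1', hg2', e1, e2, hg1, hg2]⟩)
        ⟨_, _, _, h⟩
      have := congrArg (fun z => z * τ * g) heq
      simpa [mul_assoc] using this
  choose f hf using hdiag
  refine le_of_le_of_eq (Nat.card_le_card_of_injective (fun k : K => f k.1 k.2) ?_) card_ker_codePair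
  intro x y hxy
  refine Subtype.ext (Subtype.ext ?_)
  rw [hf x.1 x.2, hf y.1 y.2]
  exact monoEl_congr rfl (congrArg (fun z : LinearMap.ker codePair => (z.1 : GolayPt → ZMod 2)) hxy)

theorem co2_simple_vec : IsSimpleGroup (MulAction.stabilizer Co0 vecCo2) := by
  have hN := card_stabilizer32 sqNorm_vecCo2
  have : Nontrivial (MulAction.stabilizer Co0 vecCo2) := Finite.one_lt_card_iff_nontrivial.1 (by omega)
  refine { eq_bot_or_eq_top_of_normal := fun K hK => ?_ }
  rcases eq_top_or_not_dvd (a := -3) (v := vecCo2) (by norm_num) (by norm_num) (by norm_num) rfl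
    (by rw [hN]; norm_num) K with h | h
  · exact Or.inr h
  left
  obtain ⟨h2, n, hn, hmod⟩ := two_pow_of_not_dvd (oneVec_ne_zero (a := -3) rfl)
    (shiftEl_fix_oneVec (a := -3) rfl) K h [(3, 6), (5, 3), (7, 1), (11, 1)]
    (fun p hp hd => by
      obtain ⟨v, hv⟩ := facts_of_factor _ card_co2_factor (by
        intro e he; simp only [List.mem_cons, List.not_mem_nil, or_false] at he
        rcases he with rfl | rfl | rfl | rfl | rfl | rfl <;> norm_num) hp (hN ▸ hd)
      simp only [List.mem_cons, List.not_mem_nil, or_false, Prod.mk.injEq] at hv ⊢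
      rcases hv with h | h | h | h | h | h <;> simp [h.1])
    (by
      intro e he
      simp only [List.mem_cons, List.not_mem_nil, or_false] at he
      rcases he with rfl | rfl | rfl | rfl <;>
        refine ⟨by rw [hN]; norm_num, fun i hi => ?_, by norm_num⟩ <;>
        (dsimp only at hi ⊢; interval_cases i <;> norm_num))
  have hle := pow_not_dvd (m := 18) hn hN (by norm_num)
  obtain ⟨g, hg⟩ := Orbits.transitive32 vecCo2 vecPair sqNorm_vecCo2 sqNorm_vecPair
  let e := MulAction.stabilizerEquivStabilizer (g := g) hg.symm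
  have : (K.map e.toMonoidHom).Normal := Subgroup.Normal.map inferInstance _ e.surjective
  have hsmall := card_le_of_pGroup (K.map e.toMonoidHom) (h2.map _)
  rw [Subgroup.card_map_of_injective e.injective, hn] at hsmall
  have hle' : n ≤ 10 := (Nat.pow_le_pow_iff_right (by norm_num)).1 hsmall
  have hn0 : n = 0 := by interval_cases n <;> simp_all
  rw [hn0, pow_zero] at hn
  exact Subgroup.eq_bot_of_card_eq _ hn

theorem isCo2_stabilizer {v : leechLattice} (hv : sqNorm (v : GolayPt → ℤ) = 32) :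
    IsCo2 (MulAction.stabilizer Co0 v) := by
  refine ⟨?_, card_stabilizer32 hv⟩
  obtain ⟨g, hg⟩ := Orbits.transitive32 v vecCo2 hv sqNorm_vecCo2
  exact (MulEquiv.isSimpleGroup_congr (MulAction.stabilizerEquivStabilizer (g := g) hg.symm)).2
    co2_simple_vec

end CfsgLib.Leech
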