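import Cfsg.Agent.Lib.Leech.Simple.Stab11

/-! Simplicity of the stabilisers of two pairs of vectors, given their orders. -/

set_option autoImplicit false

namespace CfsgLib.Leech

open Cfsg CfsgLib
open scoped Pointwise

theorem oneVec_eq_pat (a : ℤ) : oneVec a = pat a 1 1 1 := by
  funext i
  have h : ∀ k : Fin 4, k = 0 ∨ k = 1 ∨ k = 2 ∨ k = 3 := by decide
  by_cases hi : i = none
  · subst hi; rfl
  · have hne : cls i ≠ 0 := fun e => hi (cls_eq_zero.1 e)
    unfold oneVec pat
    rw [if_neg hi]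
    rcases h (cls i) with e | e | e | e <;> first | exact absurd e hne | (rw [e]; rfl)

theorem g11_fix_pat {u : leechLattice} {a b c d : ℤ} (hu : (u : GolayPt → ℤ) = pat a b c d) :
    g11 • u = u := by
  refine Subtype.ext (funext fun i => ?_)
  rw [coe_g11_smul, hu]
  show ![a, b, c, d] (cls (mulTwoPerm i)) = ![a, b, c, d] (cls i)
  rw [cls_mulTwo]

/-- The second vector for McL. -/
def vecMcL : leechLattice := ⟨pat 3 1 1 (-1), mem_of_leechB (by decide +kernel)⟩

/-- The second vector for HS. -/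
def vecHS : leechLattice := ⟨pat (-2) 0 0 (-2), mem_of_leechB (by decide +kernel)⟩

theorem eightVec_none_eq_pat : (eightVec none : GolayPt → ℤ) = pat 8 0 0 0 := by
  rw [coe_eightVec]
  show (fun i => (Pi.single none 8 : GolayPt → ℤ) i) = _
  funext i
  have h : ∀ k : Fin 4, k = 0 ∨ k = 1 ∨ k = 2 ∨ k = 3 := by decide
  by_cases hi : i = none
  · subst hi; rfl
  · have hne : cls i ≠ 0 := fun e => hi (cls_eq_zero.1 e)
    rw [Pi.single_eq_of_ne hi]
    unfold pat
    rcases h (cls i) with e | e | e | e <;> first | exact absurd e hne | (rw [e]; rfl)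

theorem cls_three_smul {τ : Equiv.Perm GolayPt} (hd : τ • nonDod = nonDod) (h0 : τ none = none)
    (i : GolayPt) : cls (τ i) = 3 ↔ cls i = 3 := by
  have h : τ i ∈ nonDod ↔ i ∈ nonDod := by
    conv_lhs => rw [← hd]
    exact Finset.smul_mem_smul_finset_iff τ
  rw [mem_nonDod, mem_nonDod] at h
  have hz : cls (τ i) = 0 ↔ cls i = 0 := by
    rw [cls_eq_zero, cls_eq_zero]
    exact ⟨fun e => τ.injective (e.trans h0.symm), fun e => e ▸ h0⟩
  constructor
  · intro e
    rcases h.1 (Or.inr e) with e' | e'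
    · have := hz.2 e'; rw [e] at this; exact absurd this (by decide)
    · exact e'
  · intro e
    rcases h.2 (Or.inr e) with e' | e'
    · have := hz.1 e'; rw [e] at this; exact absurd this (by decide)
    · exact e'

theorem smul_nonDod_of_cls {τ : Equiv.Perm GolayPt} (h0 : τ none = none)
    (h : ∀ i, i ≠ none → (cls (τ i) = 3 ↔ cls i = 3)) : τ • nonDod = nonDod := by
  ext i
  rw [← Finset.inv_smul_mem_iff, Equiv.Perm.smul_def, mem_nonDod, mem_nonDod]
  obtain ⟨j, rfl⟩ := τ.surjective i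
  rw [← Equiv.Perm.mul_apply τ⁻¹, inv_mul_cancel, Equiv.Perm.one_apply]
  by_cases hj : j = none
  · subst hj; rw [h0]
  · have hj' : τ j ≠ none := fun e => hj (τ.injective (e.trans h0.symm))
    rw [h j hj, cls_eq_zero, cls_eq_zero]
    exact or_congr_left ⟨fun e => absurd e hj, fun e => absurd e hj'⟩

theorem mcl_values (k : Fin 4) : ![(3 : ℤ), 1, 1, -1] k = if k = 0 then 3 else if k = 3 then -1 else 1 := by
  revert k; decide

theorem hs_values (k : Fin 4) : ![(-2 : ℤ), 0, 0, -2] k = if k = 0 ∨ k = 3 then -2 else 0 := by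
  revert k; decide

theorem mcl_mono {τ : Equiv.Perm GolayPt} {hτ : τ ∈ M24} {c : GolayPt → ZMod 2} {hc : c ∈ golayCode} :
    monoEl τ hτ c hc • vecCo2 = vecCo2 ∧ monoEl τ hτ c hc • vecMcL = vecMcL ↔
      τ • nonDod = nonDod ∧ τ none = none ∧ c = 0 := by
  rw [monoEl_fix_oneVec (a := -3) (v := vecCo2) (by norm_num) (by norm_num) (by norm_num) rfl]
  constructor
  · rintro ⟨⟨h0, rfl⟩, hw⟩
    refine ⟨smul_nonDod_of_cls h0 fun i hi => ?_, h0, rfl⟩
    have h1 := congrArg (fun u : leechLattice => (u : GolayPt → ℤ) i) hw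
    simp only [coe_monoEl_smul, monoFun, Pi.zero_apply] at h1
    rw [if_neg (by decide)] at h1
    change ![(3 : ℤ), 1, 1, -1] (cls (τ i)) = ![(3 : ℤ), 1, 1, -1] (cls i) at h1
    have hz : cls i ≠ 0 := fun e => hi (cls_eq_zero.1 e)
    have hz' : cls (τ i) ≠ 0 := fun e => hi (τ.injective ((cls_eq_zero.1 e).trans h0.symm))
    rw [mcl_values, mcl_values, if_neg hz, if_neg hz'] at h1
    split at h1 <;> split at h1 <;> simp_all
  · rintro ⟨hd, h0, rfl⟩
    refine ⟨⟨h0, rfl⟩, Subtype.ext (funext fun i => ?_)⟩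
    rw [coe_monoEl_smul]
    simp only [monoFun, Pi.zero_apply]
    rw [if_neg (by decide)]
    show ![(3 : ℤ), 1, 1, -1] (cls (τ i)) = ![(3 : ℤ), 1, 1, -1] (cls i)
    by_cases hi : i = none
    · subst hi; rw [h0]
    · have hz : cls i ≠ 0 := fun e => hi (cls_eq_zero.1 e)
      have hz' : cls (τ i) ≠ 0 := fun e => hi (τ.injective ((cls_eq_zero.1 e).trans h0.symm))
      rw [mcl_values, mcl_values, if_neg hz, if_neg hz']
      simp only [cls_three_smul hd h0 i]

theorem mcl_goodPair : GoodPair vecCo2 vecMcL where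
  fixv := g11_fix_pat (oneVec_eq_pat (-3))
  fixw := g11_fix_pat rfl
  mono := mcl_mono
  unique64 := fun u hu hn hv hw => by
    obtain ⟨a, b, c, d, e⟩ := exists_pat_of_fixed hu
    rw [e, sqNorm_pat] at hn
    rw [e, eightVec_none_eq_pat] at hv hw
    rw [show (vecCo2 : GolayPt → ℤ) = pat (-3) 1 1 1 from oneVec_eq_pat (-3), dotInt_pat,
      dotInt_pat] at hv
    rw [show (vecMcL : GolayPt → ℤ) = pat 3 1 1 (-1) from rfl, dotInt_pat, dotInt_pat] at hw
    have : -8 ≤ a ∧ a ≤ 8 ∧ -8 ≤ b ∧ b ≤ 8 ∧ -2 ≤ d ∧ d ≤ 2 :=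
      ⟨by nlinarith, by nlinarith, by nlinarith, by nlinarith, by nlinarith, by nlinarith⟩
    obtain ⟨rfl, rfl, rfl, rfl⟩ : a = 8 ∧ b = 0 ∧ c = 0 ∧ d = 0 := by omega
    exact Subtype.ext (e.trans eightVec_none_eq_pat.symm)

theorem hs_mono {τ : Equiv.Perm GolayPt} {hτ : τ ∈ M24} {c : GolayPt → ZMod 2} {hc : c ∈ golayCode} :
    monoEl τ hτ c hc • vecCo3 = vecCo3 ∧ monoEl τ hτ c hc • vecHS = vecHS ↔
      τ • nonDod = nonDod ∧ τ none = none ∧ c = 0 := by
  rw [monoEl_fix_oneVec (a := 5) (v := vecCo3) (by norm_num) (by norm_num) (by norm_num) rfl]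
  constructor
  · rintro ⟨⟨h0, rfl⟩, hw⟩
    refine ⟨smul_nonDod_of_cls h0 fun i hi => ?_, h0, rfl⟩
    have h1 := congrArg (fun u : leechLattice => (u : GolayPt → ℤ) i) hw
    simp only [coe_monoEl_smul, monoFun, Pi.zero_apply] at h1
    rw [if_neg (by decide)] at h1
    change ![(-2 : ℤ), 0, 0, -2] (cls (τ i)) = ![(-2 : ℤ), 0, 0, -2] (cls i) at h1
    have hz : cls i ≠ 0 := fun e => hi (cls_eq_zero.1 e)
    have hz' : cls (τ i) ≠ 0 := fun e => hi (τ.injective ((cls_eq_zero.1 e).trans h0.symm))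
    rw [hs_values, hs_values] at h1
    simp only [hz, hz', false_or] at h1
    split at h1 <;> split at h1 <;> simp_all
  · rintro ⟨hd, h0, rfl⟩
    refine ⟨⟨h0, rfl⟩, Subtype.ext (funext fun i => ?_)⟩
    rw [coe_monoEl_smul]
    simp only [monoFun, Pi.zero_apply]
    rw [if_neg (by decide)]
    show ![(-2 : ℤ), 0, 0, -2] (cls (τ i)) = ![(-2 : ℤ), 0, 0, -2] (cls i)
    by_cases hi : i = none
    · subst hi; rw [h0]
    · have hz : cls i ≠ 0 := fun e => hi (cls_eq_zero.1 e)
      have hz' : cls (τ i) ≠ 0 := fun e => hi (τ.injective ((cls_eq_zero.1 e).trans h0.symm))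
      rw [hs_values, hs_values]
      simp only [hz, hz', false_or, cls_three_smul hd h0 i]

theorem hs_goodPair : GoodPair vecCo3 vecHS where
  fixv := g11_fix_pat (oneVec_eq_pat 5)
  fixw := g11_fix_pat rfl
  mono := hs_mono
  unique64 := fun u hu hn hv hw => by
    obtain ⟨a, b, c, d, e⟩ := exists_pat_of_fixed hu
    have hu' := mem_leech_iff.1 u.2
    rw [e, sqNorm_pat] at hn
    rw [e, eightVec_none_eq_pat] at hv hw
    rw [show (vecCo3 : GolayPt → ℤ) = pat 5 1 1 1 from oneVec_eq_pat 5, dotInt_pat,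
      dotInt_pat] at hv
    rw [show (vecHS : GolayPt → ℤ) = pat (-2) 0 0 (-2) from rfl, dotInt_pat, dotInt_pat] at hw
    have hpa := hu'.1 (some 0)
    have hpc := hu'.1 (some 1)
    rw [e] at hpa hpc
    change b % 2 = a % 2 at hpa
    change c % 2 = a % 2 at hpc
    have hd : -2 ≤ d ∧ d ≤ 2 := ⟨by nlinarith, by nlinarith⟩
    have hc : -2 ≤ c ∧ c ≤ 2 := ⟨by nlinarith, by nlinarith⟩
    have ha : -8 ≤ a ∧ a ≤ 8 := ⟨by nlinarith, by nlinarith⟩
    have hb : b = 40 - 5 * a - 11 * c - 11 * d := by omega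
    have haa : a = 8 - 11 * d := by omega
    subst haa
    subst hb
    obtain ⟨hc1, hc2⟩ := hc
    obtain ⟨hd1, hd2⟩ := hd
    obtain ⟨rfl, rfl⟩ : c = 0 ∧ d = 0 := by
      interval_cases d <;> interval_cases c <;> first | omega | norm_num at hn hpc hpa ha ⊢
    exact Subtype.ext (e.trans eightVec_none_eq_pat.symm)

theorem hs_simple (hN : Nat.card (pairStab vecCo3 vecHS) = 44352000) :
    IsSimpleGroup (pairStab vecCo3 vecHS) := by
  have : Nontrivial (pairStab vecCo3 vecHS) := Finite.one_lt_card_iff_nontrivial.1 (by omega)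
  refine { eq_bot_or_eq_top_of_normal := fun K hK => ?_ }
  rcases eq_top_or_not_dvd11 hs_goodPair (by rw [hN]; norm_num) K with h | h
  · exact Or.inr h
  left
  have hnd : ∀ p, p.Prime → ¬ p ∣ Nat.card K := by
    intro p hp hpK
    have hpG := hpK.trans (Subgroup.card_subgroup_dvd_card K)
    rw [hN] at hpG
    obtain ⟨e, he⟩ := facts_of_factor (N := 44352000) [(2, 9), (3, 2), (5, 3), (7, 1), (11, 1)]
      (by decide +kernel) (by
        intro e he; simp only [List.mem_cons, List.not_mem_nil, or_false] at he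
        rcases he with rfl | rfl | rfl | rfl | rfl <;> norm_num) hp hpG
    simp only [List.mem_cons, List.not_mem_nil, or_false, Prod.mk.injEq] at he
    rcases he with ⟨rfl, rfl⟩ | ⟨rfl, rfl⟩ | ⟨rfl, rfl⟩ | ⟨rfl, rfl⟩ | ⟨rfl, rfl⟩
    · exact prime_not_dvd hs_goodPair h (m := 9) hp (by norm_num) (by rw [hN]; norm_num)
        (fun i hi => by interval_cases i <;> norm_num) hpK
    · exact prime_not_dvd hs_goodPair h (m := 2) hp (by norm_num) (by rw [hN]; norm_num)
        (fun i hi => by interval_cases i <;> norm_num) hpK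
    · exact prime_not_dvd hs_goodPair h (m := 3) hp (by norm_num) (by rw [hN]; norm_num)
        (fun i hi => by interval_cases i <;> norm_num) hpK
    · exact prime_not_dvd hs_goodPair h (m := 1) hp (by norm_num) (by rw [hN]; norm_num)
        (fun i hi => by interval_cases i <;> norm_num) hpK
    · exact h hpK
  refine Subgroup.eq_bot_of_card_eq _ ?_
  by_contra hne
  obtain ⟨p, hp, hpd⟩ := Nat.exists_prime_and_dvd hne
  exact hnd p hp hpd

/-- An octad of the kind avoiding the extra point. -/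
def mclX1 (m : ℕ) : GolayPt → ℤ := fun i => if m.testBit (Golay.bit i) then 2 else 0

/-- An octad of the kind through the extra point. -/
def mclX2 (m : ℕ) : GolayPt → ℤ := fun i =>
  if m.testBit (Golay.bit i) then (if cls i = 0 ∨ cls i = 3 then -2 else 2) else 0

/-- The condition on the vectors used to span. -/
def InX (x : leechLattice) : Prop :=
  sqNorm (x : GolayPt → ℤ) = 32 ∧ dotInt (vecCo2 : GolayPt → ℤ) x = 16 ∧
    dotInt (vecMcL : GolayPt → ℤ) x = 8

/-- The first spanning vector. -/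
def vecX1 : leechLattice := ⟨mclX1 10558, mem_of_leechB (by decide +kernel)⟩

/-- The second spanning vector. -/
def vecX2 : leechLattice := ⟨mclX2 8401364, mem_of_leechB (by decide +kernel)⟩

theorem inX_vecX : InX vecX1 ∧ InX vecX2 := by
  unfold InX
  show (sqNorm (mclX1 10558) = 32 ∧ dotInt (oneVec (-3)) (mclX1 10558) = 16 ∧
      dotInt (pat 3 1 1 (-1)) (mclX1 10558) = 8) ∧
    (sqNorm (mclX2 8401364) = 32 ∧ dotInt (oneVec (-3)) (mclX2 8401364) = 16 ∧
      dotInt (pat 3 1 1 (-1)) (mclX2 8401364) = 8)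
  decide +kernel

theorem orbit_sums_check : ∀ i : GolayPt,
    ∑ k ∈ Finset.range 11, mclX1 10558 ((mulTwoPerm ^ k) i) -
      ∑ k ∈ Finset.range 11, mclX2 8401364 ((mulTwoPerm ^ k) i) -
      3 * (oneVec (-3) i - pat 3 1 1 (-1) i) = 5 * pat 8 0 0 0 i := by
  decide +kernel

theorem five_smul_eightVec :
    (5 : ℤ) • eightVec none = (∑ k ∈ Finset.range 11, g11 ^ k • vecX1) -
      (∑ k ∈ Finset.range 11, g11 ^ k • vecX2) - (3 : ℤ) • (vecCo2 - vecMcL) := by
  refine Subtype.ext (funext fun i => ?_)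
  simp only [AddSubgroupClass.coe_zsmul, AddSubgroupClass.coe_sub, AddSubgroup.val_finsetSum,
    Pi.sub_apply, Pi.smul_apply, Finset.sum_apply, smul_eq_mul, eightVec_none_eq_pat]
  have e : ∀ (u : leechLattice) (k : ℕ),
      ((g11 ^ k • u : leechLattice) : GolayPt → ℤ) i = (u : GolayPt → ℤ) ((mulTwoPerm ^ k) i) := by
    intro u k
    rw [g11_pow, coe_monoEl_smul]; simp [monoFun]
  simp only [e]
  exact (orbit_sums_check i).symm

theorem inX_smul {g : Co0} (hg : g ∈ pairStab vecCo2 vecMcL) {x : leechLattice} (hx : InX x) :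
    InX (g • x) := by
  refine ⟨(sqNorm_smul g x).trans hx.1, ?_, ?_⟩
  · conv_lhs => rw [← (show g • vecCo2 = vecCo2 from hg.1)]
    exact (dotInt_smul g _ _).trans hx.2.1
  · conv_lhs => rw [← (show g • vecMcL = vecMcL from hg.2)]
    exact (dotInt_smul g _ _).trans hx.2.2

theorem mcl_simple (hN : Nat.card (pairStab vecCo2 vecMcL) = 898128000)
    (hcard : Nat.card {x : leechLattice // InX x} = 275)
    (htr : ∀ x y : leechLattice, InX x → InX y → ∃ g ∈ pairStab vecCo2 vecMcL, g • x = y) :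
    IsSimpleGroup (pairStab vecCo2 vecMcL) := by
  have : Nontrivial (pairStab vecCo2 vecMcL) := Finite.one_lt_card_iff_nontrivial.1 (by omega)
  refine { eq_bot_or_eq_top_of_normal := fun K hK => ?_ }
  rcases eq_top_or_not_dvd11 mcl_goodPair (by rw [hN]; norm_num) K with h | h
  · exact Or.inr h
  left
  have h3 : ∀ p, p.Prime → p ∣ Nat.card K → p = 3 := by
    intro p hp hpK
    have hpG := hpK.trans (Subgroup.card_subgroup_dvd_card K)
    rw [hN] at hpG
    obtain ⟨e, he⟩ := facts_of_factor (N := 898128000) [(2, 7), (3, 6), (5, 3), (7, 1), (11, 1)]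
      (by decide +kernel) (by
        intro e he; simp only [List.mem_cons, List.not_mem_nil, or_false] at he
        rcases he with rfl | rfl | rfl | rfl | rfl <;> norm_num) hp hpG
    simp only [List.mem_cons, List.not_mem_nil, or_false, Prod.mk.injEq] at he
    rcases he with ⟨rfl, rfl⟩ | ⟨rfl, rfl⟩ | ⟨rfl, rfl⟩ | ⟨rfl, rfl⟩ | ⟨rfl, rfl⟩
    · exact absurd hpK (prime_not_dvd mcl_goodPair h (m := 7) hp (by norm_num) (by rw [hN]; norm_num)
        (fun i hi => by interval_cases i <;> norm_num))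
    · rfl
    · exact absurd hpK (prime_not_dvd mcl_goodPair h (m := 3) hp (by norm_num) (by rw [hN]; norm_num)
        (fun i hi => by interval_cases i <;> norm_num))
    · exact absurd hpK (prime_not_dvd mcl_goodPair h (m := 1) hp (by norm_num) (by rw [hN]; norm_num)
        (fun i hi => by interval_cases i <;> norm_num))
    · exact absurd hpK h
  have hpg : IsPGroup 3 K := by
    refine IsPGroup.of_card (n := (Nat.card K).primeFactorsList.length) ?_
    conv_lhs => rw [← Nat.prod_primeFactorsList Nat.card_pos.ne']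
    exact List.prod_eq_pow_card _ _ fun p hp =>
      h3 p (Nat.prime_of_mem_primeFactorsList hp) (Nat.dvd_of_mem_primeFactorsList hp)
  let _ : MulAction K {x : leechLattice // InX x} :=
    { smul := fun k x => ⟨((k : pairStab vecCo2 vecMcL) : Co0) • x.1, inX_smul k.1.2 x.2⟩
      one_smul := fun x => Subtype.ext (one_smul Co0 x.1)
      mul_smul := fun a b x => Subtype.ext
        (mul_smul ((a : pairStab vecCo2 vecMcL) : Co0) ((b : pairStab vecCo2 vecMcL) : Co0) x.1) }
  have : Finite {x : leechLattice // InX x} := Nat.finite_of_card_ne_zero (by omega)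
  have : Fact (Nat.Prime 3) := ⟨Nat.prime_three⟩
  obtain ⟨x₀, hx₀⟩ := hpg.nonempty_fixed_point_of_prime_not_dvd_card {x : leechLattice // InX x}
    (by rw [hcard]; norm_num)
  refine K.eq_bot_iff_forall.2 fun k hk => ?_
  have hall : ∀ x, InX x → (k : Co0) • x = x := by
    intro x hx
    obtain ⟨g, hg, rfl⟩ := htr x₀.1 x x₀.2 hx
    have hconj := hK.conj_mem' k hk ⟨g, hg⟩
    have h' := congrArg Subtype.val (hx₀ ⟨_, hconj⟩)
    change (g⁻¹ * (k : Co0) * g) • x₀.1 = x₀.1 at h'
    rw [mul_smul, mul_smul, inv_smul_eq_iff] at h'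
    exact h'
  have hsum : ∀ x, InX x → (k : Co0) • (∑ i ∈ Finset.range 11, g11 ^ i • x) =
      ∑ i ∈ Finset.range 11, g11 ^ i • x := fun x hx => by
    rw [smul_sum']
    exact Finset.sum_congr rfl fun i _ => hall _
      (inX_smul (Subgroup.pow_mem _ (g11_mem mcl_goodPair) i) hx)
  have h5 : (k : Co0) • ((5 : ℤ) • eightVec none) = (5 : ℤ) • eightVec none := by
    have hsub : ∀ a b : leechLattice, (k : Co0) • (a - b) = (k : Co0) • a - (k : Co0) • b :=
      fun a b => map_sub (toAddHom (k : Co0)) a b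
    rw [five_smul_eightVec, hsub, hsub, hsum _ inX_vecX.1, hsum _ inX_vecX.2, smul_zsmul',
      hsub, show (k : Co0) • vecCo2 = vecCo2 from k.2.1,
      show (k : Co0) • vecMcL = vecMcL from k.2.2]
  rw [smul_zsmul'] at h5
  have hfix : (k : Co0) • eightVec none = eightVec none := by
    refine Subtype.ext (funext fun i => ?_)
    have := congrArg (fun u : leechLattice => (u : GolayPt → ℤ) i) h5
    simp only [AddSubgroupClass.coe_zsmul, Pi.smul_apply, smul_eq_mul] at this
    omega
  obtain ⟨σ, hσ⟩ := exists_embM11 mcl_goodPair (x := k) (stdStab_of_fix hfix)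
  have hsimp : IsSimpleGroup m11Sub := Golay.isSimple_stab_dodecad_point nonDod_mem
    (mem_nonDod.2 (Or.inl rfl))
  have hbot : K.comap (embM11 mcl_goodPair) = ⊥ := by
    refine (hsimp.eq_bot_or_eq_top_of_normal _ inferInstance).resolve_right fun htop => h ?_
    obtain ⟨τ, hτ⟩ := exists_embM11 mcl_goodPair (x := g11' mcl_goodPair)
      (monoEl_mem_monoSub mulTwoPerm_mem (zero_mem _))
    have hgK : g11' mcl_goodPair ∈ K := hτ ▸ (htop ▸ Subgroup.mem_top τ : τ ∈ K.comap _)
    have hd := orderOf_dvd_natCard (⟨_, hgK⟩ : K)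
    rwa [Subgroup.orderOf_mk, orderOf_g11'] at hd
  have : σ ∈ K.comap (embM11 mcl_goodPair) := by rw [Subgroup.mem_comap, hσ]; exact hk
  rw [hbot, Subgroup.mem_bot] at this
  rw [← hσ, this, map_one]

end CfsgLib.Leech
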