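import Cfsg.Agent.Lib.Leech.Simple.Co23
import Cfsg.Agent.Lib.Golay.Simple
import Mathlib.GroupTheory.GroupAction.Blocks

/-! An element of order 11 in the stabilisers of pairs of vectors: towards McL and HS. -/

set_option autoImplicit false

namespace CfsgLib.Leech

open Cfsg CfsgLib
open scoped Pointwise

/-- The class of a point under the multiplication by the squares. -/
def cls : GolayPt → Fin 4
  | none => 0
  | some x => if x = 0 then 1 else if (x ^ 11 : ZMod 23) = 1 then 2 else 3

/-- A vector constant on the classes. -/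
def pat (a b c d : ℤ) : GolayPt → ℤ := fun i => ![a, b, c, d] (cls i)

/-- The dodecad of the nonsquares and the extra point. -/
def nonDod : Finset GolayPt := Finset.univ.filter fun i => cls i = 0 ∨ cls i = 3

theorem nonDod_mem : nonDod ∈ dodecads := by
  have e : nonDod = Golay.toSet 16436384 := by decide +kernel
  rw [e]
  exact Golay.mem_wordsOfWeight_iff.2 ⟨16436384 &&& 4095, by decide +kernel, by decide +kernel,
    by rw [show Golay.comb (16436384 &&& 4095) = 16436384 by decide +kernel]⟩

theorem mem_nonDod {i : GolayPt} : i ∈ nonDod ↔ cls i = 0 ∨ cls i = 3 := by simp [nonDod]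

theorem cls_eq_zero : ∀ {i : GolayPt}, cls i = 0 ↔ i = none := by decide +kernel

theorem sum_cls (F : Fin 4 → ℤ) : ∑ i, F (cls i) = F 0 + F 1 + 11 * F 2 + 11 * F 3 := by
  have e : ∀ i, F (cls i) = ∑ k : Fin 4, (if cls i = k then F k else 0) := fun i => by
    rw [Finset.sum_ite_eq]; simp
  rw [Finset.sum_congr rfl fun i _ => e i, Finset.sum_comm]
  simp only [← Finset.sum_filter, Finset.sum_const, nsmul_eq_mul, Fin.sum_univ_four]
  rw [show (Finset.univ.filter fun i : GolayPt => cls i = 0).card = 1 by decide +kernel,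
    show (Finset.univ.filter fun i : GolayPt => cls i = 1).card = 1 by decide +kernel,
    show (Finset.univ.filter fun i : GolayPt => cls i = 2).card = 11 by decide +kernel,
    show (Finset.univ.filter fun i : GolayPt => cls i = 3).card = 11 by decide +kernel]
  norm_num

theorem sqNorm_pat (a b c d : ℤ) : sqNorm (pat a b c d) = a ^ 2 + b ^ 2 + 11 * c ^ 2 + 11 * d ^ 2 :=
  sum_cls fun k => ![a, b, c, d] k ^ 2

theorem dotInt_pat (a b c d a' b' c' d' : ℤ) :
    dotInt (pat a b c d) (pat a' b' c' d') = a * a' + b * b' + 11 * (c * c') + 11 * (d * d') :=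
  sum_cls fun k => ![a, b, c, d] k * ![a', b', c', d'] k

/-- The multiplication by two. -/
def mulTwoPerm : Equiv.Perm GolayPt :=
  Equiv.optionCongr
    { toFun := fun x : ZMod 23 => 2 * x
      invFun := fun x => 12 * x
      left_inv := by decide +kernel
      right_inv := by decide +kernel }

theorem mulTwoPerm_mem : mulTwoPerm ∈ M24 := mem_M24_of_m24B _ (by decide +kernel)

theorem cls_mulTwo : ∀ i, cls (mulTwoPerm i) = cls i := by decide +kernel

/-- The monomial element of order 11. -/
def g11 : Co0 := monoEl mulTwoPerm mulTwoPerm_mem 0 (zero_mem _)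

theorem coe_g11_smul (u : leechLattice) (i : GolayPt) :
    ((g11 • u : leechLattice) : GolayPt → ℤ) i = (u : GolayPt → ℤ) (mulTwoPerm i) := by
  rw [g11, coe_monoEl_smul]; simp [monoFun]

theorem g11_ne_one : g11 ≠ 1 := by
  intro h
  have := congrArg (fun g : Co0 =>
    ((g • eightVec (some 1) : leechLattice) : GolayPt → ℤ) (some 1)) h
  simp only [coe_g11_smul, one_smul, coe_eightVec] at this
  revert this
  decide +kernel

theorem mulTwoPerm_pow : mulTwoPerm ^ 11 = 1 := by
  refine Equiv.ext fun p => ?_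
  revert p; decide +kernel

instance factPrimeEleven : Fact (Nat.Prime 11) := ⟨by norm_num⟩

theorem g11_pow (n : ℕ) :
    g11 ^ n = monoEl (mulTwoPerm ^ n) (pow_mem mulTwoPerm_mem n) 0 (zero_mem _) := by
  induction n with
  | zero => exact monoEl_one.symm
  | succ n ih =>
    rw [pow_succ, ih, g11, monoEl_mul]
    exact monoEl_congr (pow_succ' _ _).symm (by simp)

theorem orderOf_g11 : orderOf g11 = 11 := by
  refine orderOf_eq_prime ?_ g11_ne_one
  rw [g11_pow, ← monoEl_one]
  exact monoEl_congr mulTwoPerm_pow rfl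

theorem orbit_cls : ∀ i j : GolayPt, cls i = cls j → ∃ k < 11, (mulTwoPerm ^ k) i = j := by decide +kernel

theorem apply_pow_eq_of_fixed {u : leechLattice} (h : g11 • u = u) (k : ℕ) (i : GolayPt) :
    (u : GolayPt → ℤ) ((mulTwoPerm ^ k) i) = (u : GolayPt → ℤ) i := by
  induction k generalizing i with
  | zero => rfl
  | succ k ih =>
    rw [pow_succ', Equiv.Perm.mul_apply]
    have := congrArg (fun w : leechLattice => (w : GolayPt → ℤ) ((mulTwoPerm ^ k) i)) h
    simp only [coe_g11_smul] at this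
    rw [this, ih]

theorem exists_pat_of_fixed {u : leechLattice} (h : g11 • u = u) :
    ∃ a b c d, (u : GolayPt → ℤ) = pat a b c d := by
  refine ⟨(u : GolayPt → ℤ) none, (u : GolayPt → ℤ) (some 0), (u : GolayPt → ℤ) (some 1),
    (u : GolayPt → ℤ) (some 22), funext fun i => ?_⟩
  have key : ∀ j, cls i = cls j → (u : GolayPt → ℤ) i = (u : GolayPt → ℤ) j := fun j hj => by
    obtain ⟨k, -, hk⟩ := orbit_cls i j hj
    rw [← hk, apply_pow_eq_of_fixed h]
  unfold pat
  have hc : ∀ k : Fin 4, k = 0 ∨ k = 1 ∨ k = 2 ∨ k = 3 := by decide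
  rcases hc (cls i) with e | e | e | e <;> rw [e]
  · exact key none (by rw [e]; decide +kernel)
  · exact key (some 0) (by rw [e]; decide +kernel)
  · exact key (some 1) (by rw [e]; decide +kernel)
  · exact key (some 22) (by rw [e]; decide +kernel)

/-- The conditions on a pair of vectors making the joint stabiliser tractable. -/
structure GoodPair (v w : leechLattice) : Prop where
  fixv : g11 • v = v
  fixw : g11 • w = w
  unique64 : ∀ u : leechLattice, g11 • u = u → sqNorm (u : GolayPt → ℤ) = 64 →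
    dotInt (u : GolayPt → ℤ) v = dotInt (eightVec none : GolayPt → ℤ) v →
    dotInt (u : GolayPt → ℤ) w = dotInt (eightVec none : GolayPt → ℤ) w → u = eightVec none
  mono : ∀ {τ : Equiv.Perm GolayPt} {hτ : τ ∈ M24} {c : GolayPt → ZMod 2} {hc : c ∈ golayCode},
    monoEl τ hτ c hc • v = v ∧ monoEl τ hτ c hc • w = w ↔
      τ • nonDod = nonDod ∧ τ none = none ∧ c = 0

variable {v w : leechLattice}

/-- The joint stabiliser. -/
abbrev pairStab (v w : leechLattice) : Subgroup Co0 :=
  MulAction.stabilizer Co0 v ⊓ MulAction.stabilizer Co0 w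

theorem g11_mem (hP : GoodPair v w) : g11 ∈ pairStab v w := ⟨hP.fixv, hP.fixw⟩

/-- The element of order 11 in the joint stabiliser. -/
def g11' (hP : GoodPair v w) : pairStab v w := ⟨g11, g11_mem hP⟩

theorem orderOf_g11' (hP : GoodPair v w) : orderOf (g11' hP) = 11 := by
  rw [g11', Subgroup.orderOf_mk, orderOf_g11]

theorem mem_monoSub_of_normalizes (hP : GoodPair v w) {h : Co0} (hh : h ∈ pairStab v w)
    (hn : h⁻¹ * g11 * h ∈ Subgroup.zpowers g11) : h ∈ monoSub := by
  have hfix8 : g11 • eightVec none = eightVec none := by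
    refine Subtype.ext (funext fun i => ?_)
    rw [coe_g11_smul, coe_eightVec]
    rcases i with _ | x <;> simp [mulTwoPerm]
  have hfix : g11 • (h • eightVec none) = h • eightVec none := by
    have h1 : (h⁻¹ * g11 * h) • eightVec none = eightVec none :=
      (Subgroup.zpowers_le.2 (MulAction.mem_stabilizer_iff.2 hfix8) hn :
        _ ∈ MulAction.stabilizer Co0 (eightVec none))
    rw [mul_smul, mul_smul, inv_smul_eq_iff] at h1
    exact h1
  refine stdStab_of_fix (hP.unique64 _ hfix ((sqNorm_smul h _).trans (sqNorm_eightVec none)) ?_ ?_)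
  · conv_lhs => rw [← (show h • v = v from hh.1)]
    exact dotInt_smul h _ _
  · conv_lhs => rw [← (show h • w = w from hh.2)]
    exact dotInt_smul h _ _

theorem card_centralizer11 (hP : GoodPair v w) :
    Nat.card (Subgroup.centralizer ({g11' hP} : Set (pairStab v w))) ∣ 11 := by
  set C := Subgroup.centralizer ({g11' hP} : Set (pairStab v w))
  have hle : C.map (pairStab v w).subtype ≤ Subgroup.zpowers g11 := by
    rintro _ ⟨x, hx, rfl⟩
    have hxc : (x : Co0) * g11 = g11 * (x : Co0) :=
      congrArg Subtype.val (Subgroup.mem_centralizer_singleton_iff.1 hx)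
    have hm : (x : Co0) ∈ monoSub := mem_monoSub_of_normalizes hP x.2 (by
      rw [mul_assoc, ← hxc, ← mul_assoc, inv_mul_cancel, one_mul]; exact Subgroup.mem_zpowers _)
    obtain ⟨τ, hτ, c, hc, hxe⟩ := exists_mono_of_stdStab hm
    obtain ⟨hd, h0, rfl⟩ := hP.mono.1 ⟨hxe ▸ x.2.1, hxe ▸ x.2.2⟩
    rw [hxe, g11, monoEl_mul, monoEl_mul] at hxc
    have hcomm : mulTwoPerm * τ = τ * mulTwoPerm :=
      congrArg (fun p : M24 × golayCode => (p.1 : Equiv.Perm GolayPt)) (monoMap_injective
        (a₁ := (⟨mulTwoPerm * τ, mul_mem mulTwoPerm_mem hτ⟩, ⟨0 + (0 : GolayPt → ZMod 2) ∘ τ,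
          golayCode.add_mem hc (mem_supports_comp hτ (zero_mem _))⟩))
        (a₂ := (⟨τ * mulTwoPerm, mul_mem hτ mulTwoPerm_mem⟩, ⟨0 + (0 : GolayPt → ZMod 2) ∘ mulTwoPerm,
          golayCode.add_mem (zero_mem _) (mem_supports_comp mulTwoPerm_mem hc)⟩)) hxc)
    have h22 : (some 22 : GolayPt) ∈ nonDod := mem_nonDod.2 (Or.inr (by decide +kernel))
    have hclsN : cls (τ (some 22)) = 3 := by
      have : τ (some 22) ∈ nonDod := by
        rw [← hd]; exact Finset.smul_mem_smul_finset h22
      refine (mem_nonDod.1 this).resolve_left fun e => ?_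
      exact Option.some_ne_none _ (τ.injective ((cls_eq_zero.1 e).trans h0.symm))
    obtain ⟨k, -, hk⟩ := orbit_cls (some 22) (τ (some 22))
      (by rw [hclsN]; decide +kernel)
    have hpow : τ = mulTwoPerm ^ k := by
      have hN : ∀ i, cls i = 3 → τ i = (mulTwoPerm ^ k) i := by
        intro i hi
        obtain ⟨j, -, rfl⟩ := orbit_cls (some 22) i (by rw [hi]; decide +kernel)
        have hcj : Commute (mulTwoPerm ^ j) τ := (show Commute mulTwoPerm τ from hcomm).pow_left j
        rw [← Equiv.Perm.mul_apply τ, ← hcj.eq, Equiv.Perm.mul_apply, ← hk, ← Equiv.Perm.mul_apply,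
          ← Equiv.Perm.mul_apply, ← pow_add, ← pow_add, Nat.add_comm]
      have hpres : ∀ n : ℕ, (mulTwoPerm ^ n) • nonDod = nonDod := by
        intro n
        induction n with
        | zero => simp
        | succ n ih =>
          rw [pow_succ', mul_smul, ih]
          ext i
          rw [← Finset.inv_smul_mem_iff, mem_nonDod, mem_nonDod, Equiv.Perm.smul_def]
          have := cls_mulTwo (mulTwoPerm⁻¹ i)
          rw [← Equiv.Perm.mul_apply, mul_inv_cancel, Equiv.Perm.one_apply] at this
          rw [this]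
      have hnone : ∀ n : ℕ, (mulTwoPerm ^ n) none = none := by
        intro n
        induction n with
        | zero => rfl
        | succ n ih => rw [pow_succ', Equiv.Perm.mul_apply, ih]; rfl
      let z : Fin 5 ↪ GolayPt := ⟨![none, some 22, some 5, some 7, some 10], by decide +kernel⟩
      have hz : ∀ i, z i ∈ nonDod := by decide +kernel
      have hz' : ∀ i, τ (z i) ∈ nonDod := fun i => by
        rw [← hd]; exact Finset.smul_mem_smul_finset (hz i)
      have hagree : ∀ i, τ (z i) = (mulTwoPerm ^ k) (z i) := by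
        intro i
        rcases mem_nonDod.1 (hz i) with e | e
        · rw [cls_eq_zero.1 e, h0, hnone]
        · exact hN _ e
      obtain ⟨s, -, huniq⟩ := Golay.stab_dodecad_sharp nonDod_mem z (z.trans τ.toEmbedding) hz hz'
      have e1 := huniq ⟨⟨τ, hτ⟩, hd⟩ fun i => rfl
      have e2 := huniq ⟨⟨mulTwoPerm ^ k, pow_mem mulTwoPerm_mem k⟩, hpres k⟩ fun i => (hagree i).symm
      exact congrArg (fun g : MulAction.stabilizer M24 nonDod => ((g : M24) : Equiv.Perm GolayPt))
        (e1.trans e2.symm)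
    show (x : Co0) ∈ _
    rw [hxe]
    have : monoEl τ hτ 0 hc = g11 ^ k := by rw [g11_pow]; exact monoEl_congr hpow rfl
    rw [this]
    exact Subgroup.pow_mem _ (Subgroup.mem_zpowers g11) k
  have h := Subgroup.card_dvd_of_le hle
  rwa [Subgroup.card_map_of_injective (pairStab v w).subtype_injective, Nat.card_zpowers,
    orderOf_g11] at h

/-- The point stabiliser in the stabiliser of the dodecad. -/
abbrev m11Sub : Subgroup M24 := MulAction.stabilizer M24 nonDod ⊓ MulAction.stabilizer M24 (none : GolayPt)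

/-- The permutations inside the joint stabiliser. -/
def embM11 (hP : GoodPair v w) : m11Sub →* pairStab v w where
  toFun σ := ⟨monoEl ((σ : M24) : Equiv.Perm GolayPt)⁻¹ (inv_mem (σ : M24).2) 0 (zero_mem _),
    hP.mono.2 ⟨inv_smul_eq_iff.2 σ.2.1.symm, Equiv.Perm.inv_eq_iff_eq.2 σ.2.2.symm, rfl⟩⟩
  map_one' := by
    refine Subtype.ext (Eq.trans ?_ monoEl_one)
    show monoEl (((1 : m11Sub) : M24) : Equiv.Perm GolayPt)⁻¹ (inv_mem ((1 : m11Sub) : M24).2) 0
      (zero_mem _) = _
    exact monoEl_congr inv_one rfl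
  map_mul' σ τ := by
    refine Subtype.ext ?_
    have e := (monoEl_mul (inv_mem (σ : M24).2) (inv_mem (τ : M24).2)
      (zero_mem golayCode) (zero_mem golayCode)).symm
    refine Eq.trans ?_ e
    show monoEl (((σ * τ : m11Sub) : M24) : Equiv.Perm GolayPt)⁻¹ (inv_mem ((σ * τ : m11Sub) : M24).2) 0
      (zero_mem _) = _
    exact monoEl_congr (mul_inv_rev _ _) (by funext i; simp)

theorem exists_embM11 (hP : GoodPair v w) {x : pairStab v w} (hx : (x : Co0) ∈ monoSub) :
    ∃ σ, embM11 hP σ = x := by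
  obtain ⟨τ, hτ, c, hc, hxe⟩ := exists_mono_of_stdStab hx
  obtain ⟨hd, h0, rfl⟩ := hP.mono.1 ⟨hxe ▸ x.2.1, hxe ▸ x.2.2⟩
  refine ⟨⟨⟨τ, hτ⟩⁻¹, ?_, ?_⟩, Subtype.ext ?_⟩
  · exact inv_smul_eq_iff.2 (show _ = (⟨τ, hτ⟩ : M24) • nonDod from hd.symm)
  · exact inv_smul_eq_iff.2 (show _ = (⟨τ, hτ⟩ : M24) • (none : GolayPt) from h0.symm)
  · refine Eq.trans ?_ hxe.symm
    simp only [embM11, MonoidHom.coe_mk, OneHom.coe_mk]
    exact monoEl_congr (inv_inv τ) rfl

/-- A normal subgroup is everything or of order prime to 11. -/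
theorem eq_top_or_not_dvd11 (hP : GoodPair v w) (h11 : ¬ 11 ^ 2 ∣ Nat.card (pairStab v w))
    (K : Subgroup (pairStab v w)) [K.Normal] : K = ⊤ ∨ ¬ 11 ∣ Nat.card K := by
  by_cases hK : 11 ∣ Nat.card K
  swap; exact Or.inr hK
  left
  refine Simple.eq_top_of_dvd_card (orderOf_g11' hP) h11 hK
    (N := monoSub.subgroupOf (pairStab v w)) (fun x hx => ?_) (fun hgK => ?_)
  · refine Subgroup.mem_subgroupOf.2 (mem_monoSub_of_normalizes hP x.2 ?_)
    have h := (Subgroup.mem_normalizer_iff''.1 hx (g11' hP)).1 (Subgroup.mem_zpowers _)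
    obtain ⟨k, hk⟩ := h
    exact ⟨k, congrArg Subtype.val hk⟩
  have hsimp : IsSimpleGroup m11Sub := Golay.isSimple_stab_dodecad_point nonDod_mem
    (mem_nonDod.2 (Or.inl rfl))
  obtain ⟨σ, hσ⟩ := exists_embM11 hP (x := g11' hP) (monoEl_mem_monoSub mulTwoPerm_mem (zero_mem _))
  have hne : σ ≠ 1 := by
    rintro rfl
    rw [map_one] at hσ
    exact g11_ne_one (congrArg Subtype.val hσ).symm
  have htop : K.comap (embM11 hP) = ⊤ := by
    refine (hsimp.eq_bot_or_eq_top_of_normal _ inferInstance).resolve_left fun hbot => hne ?_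
    rw [← Subgroup.mem_bot, ← hbot, Subgroup.mem_comap, hσ]
    exact hgK
  intro x hx
  obtain ⟨τ, rfl⟩ := exists_embM11 hP (Subgroup.mem_subgroupOf.1 hx)
  exact (htop ▸ Subgroup.mem_top τ : τ ∈ K.comap (embM11 hP))

/-- Sylow subgroups of a normal subgroup of order prime to 11 are trivial below the bound. -/
theorem prime_not_dvd (hP : GoodPair v w) {K : Subgroup (pairStab v w)} [K.Normal]
    (hK : ¬ 11 ∣ Nat.card K) {p m : ℕ} (hp : p.Prime) (hne : 11 ≠ p)
    (hmax : ¬ p ^ (m + 1) ∣ Nat.card (pairStab v w))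
    (hmod : ∀ i < m, (p ^ (i + 1) - 1) % 11 ≠ 0) : ¬ p ∣ Nat.card K := by
  intro hpK
  have : Fact p.Prime := ⟨hp⟩
  obtain ⟨P, hPn⟩ := Simple.exists_invariant_sylow (p := p) (orderOf_g11' hP) hK
  obtain ⟨n, hn⟩ := IsPGroup.iff_card.1 P.isPGroup'
  have hcard : Nat.card ((P : Subgroup K).map K.subtype) = p ^ n :=
    (Subgroup.card_map_of_injective K.subtype_injective).trans hn
  have hnv : n ≤ m := by
    by_contra hlt
    exact hmax (dvd_trans (pow_dvd_pow p (by omega)) (hcard ▸ Subgroup.card_subgroup_dvd_card _))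
  have hle := Simple.le_centralizer_of_pGroup hp (orderOf_g11' hP) hPn hcard hnv hne hmod
  have hdvd := P.dvd_card_of_dvd_card hpK
  rw [hn] at hdvd
  have h1 : p ∣ 11 := hdvd.trans ((hcard ▸ Subgroup.card_dvd_of_le hle).trans (card_centralizer11 hP))
  exact hne ((Nat.prime_dvd_prime_iff_eq hp (by norm_num)).1 h1).symm

end CfsgLib.Leech
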